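import Cfsg.Agent.Lib.PLocal.TheoremB.Main
import Cfsg.Agent.Lib.PLocal.Offender.Section

/-!
Reduction of Theorem B to a normalized Sylow subgroup of the `p'`-core.
-/

set_option linter.all false
set_option autoImplicit false

namespace Cfsg.Agent.PLocal.TheoremB

open Subgroup Cfsg
open Module (End)
open scoped TensorProduct

variable {H : Type*} [Group H] [Finite H] {p : ℕ} [hp : Fact p.Prime]

/-- A normal subgroup of order prime to `p` has, for each prime, a Sylow subgroup normalized by a given `p`-element. -/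
theorem exists_normalized_sylow (K : Subgroup H) [K.Normal] (hK : ¬ p ∣ Nat.card K) {x : H} {n : ℕ}
    (hx : x ^ p ^ n = 1) (q : ℕ) [Fact q.Prime] :
    ∃ Q : Subgroup H, Q ≤ K ∧ Nat.card Q = q ^ (Nat.card K).factorization q ∧ Normalizes x Q := by
  obtain ⟨S⟩ : Nonempty (Sylow q K) := inferInstance
  set Q₀ : Subgroup H := (S : Subgroup K).map K.subtype with hQ₀
  set N : Subgroup H := normalizer (Q₀ : Set H) with hN
  have hsup : N ⊔ K = ⊤ := Sylow.normalizer_sup_eq_top S
  have hidx : ¬ p ∣ Nat.card (H ⧸ N) := by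
    let f : K ⧸ N.subgroupOf K → H ⧸ N :=
      Quotient.map' (fun k : K => (k : H)) fun a b h => by
        rw [QuotientGroup.leftRel_apply] at h ⊢
        exact h
    have hf : Function.Bijective f := by
      constructor
      · intro a b hab
        obtain ⟨a, rfl⟩ := QuotientGroup.mk_surjective a
        obtain ⟨b, rfl⟩ := QuotientGroup.mk_surjective b
        have h1 : (QuotientGroup.mk (a : H) : H ⧸ N) = QuotientGroup.mk (b : H) := hab
        exact QuotientGroup.eq.mpr (Subgroup.mem_subgroupOf.mpr (by simpa using QuotientGroup.eq.mp h1))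
      · intro a
        obtain ⟨h, rfl⟩ := QuotientGroup.mk_surjective a
        obtain ⟨k, hk, m, hm, rfl⟩ := Subgroup.mem_sup_of_normal_left.mp
          (show h ∈ K ⊔ N by rw [sup_comm, hsup]; exact mem_top h)
        refine ⟨QuotientGroup.mk (⟨k, hk⟩ : K), ?_⟩
        show ((k : H) : H ⧸ N) = ((k * m : H) : H ⧸ N)
        exact QuotientGroup.eq.mpr (by simpa using hm)
    intro hd
    rw [← Nat.card_congr (Equiv.ofBijective f hf)] at hd
    exact hK (hd.trans (Subgroup.index_dvd_card _))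
  have hxp : IsPGroup p (zpowers x) := fun g => ⟨n, by
    obtain ⟨i, hi⟩ := mem_zpowers_iff.mp g.2
    refine Subtype.ext ?_
    rw [SubmonoidClass.coe_pow, Subgroup.coe_one, ← hi, ← zpow_natCast, ← zpow_mul, mul_comm, zpow_mul,
      zpow_natCast, hx, one_zpow]⟩
  obtain ⟨a, ha⟩ := hxp.nonempty_fixed_point_of_prime_not_dvd_card (H ⧸ N) hidx
  obtain ⟨g, rfl⟩ := QuotientGroup.mk_surjective a
  have hg : g⁻¹ * x * g ∈ N := by
    have h := ha ⟨x, mem_zpowers x⟩
    have h2 : ((x * g : H) : H ⧸ N) = (g : H ⧸ N) := h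
    have h3 := QuotientGroup.eq.mp h2.symm
    rwa [← mul_assoc] at h3
  refine ⟨Q₀.map (MulAut.conj g).toMonoidHom, ?_, ?_, ?_⟩
  · rintro _ ⟨_, ⟨s, -, rfl⟩, rfl⟩
    exact Normal.conj_mem inferInstance _ s.2 g
  · rw [Subgroup.card_map_of_injective (MulAut.conj g).injective, hQ₀,
      Subgroup.card_map_of_injective K.subtype_injective, Sylow.card_eq_multiplicity]
  · rintro _ ⟨w, hw, rfl⟩
    refine ⟨g⁻¹ * x * g * w * (g⁻¹ * x * g)⁻¹, (Subgroup.mem_normalizer_iff.mp hg w).mp hw, ?_⟩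
    show g * (g⁻¹ * x * g * w * (g⁻¹ * x * g)⁻¹) * g⁻¹ = x * (g * w * g⁻¹) * x⁻¹
    group

/-- Some normalized subgroup of the `p'`-core of prime power order is moved. -/
theorem exists_moved_subgroup (hsol : IsPSolvable p H) (hOp : pCore p H = ⊥) {x : H} {n : ℕ} (hn : 1 ≤ n)
    (hx : orderOf x = p ^ n) :
    ∃ (q : ℕ) (Q : Subgroup H), q.Prime ∧ p ≠ q ∧ IsPGroup q Q ∧ Normalizes x Q ∧
      ∃ g ∈ Q, ¬ Commute (x ^ p ^ (n - 1)) g := by
  set y := x ^ p ^ (n - 1) with hy
  set K₀ := pPrimeCore p H with hK₀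
  haveI : K₀.Normal := Cores.pPrimeCore_normal p
  have hcop : (Nat.card K₀).Coprime p := Cores.coprime_card_pPrimeCore
  have hxP : x ^ p ^ n = 1 := hx ▸ pow_orderOf_eq_one x
  by_contra hc
  have hyp : orderOf y = p := by
    rw [hy, orderOf_pow' x (pow_ne_zero _ hp.out.ne_zero), hx]
    have h1 : p ^ n = p ^ (n - 1) * p := by rw [← pow_succ, Nat.sub_add_cancel hn]
    rw [h1, Nat.gcd_eq_right (dvd_mul_right _ _), Nat.mul_div_cancel_left _ (Nat.pow_pos hp.out.pos)]
  set C := K₀ ⊓ centralizer ({y} : Set H) with hC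
  have hall : ∀ q : ℕ, q.Prime → q ^ (Nat.card K₀).factorization q ∣ Nat.card C := by
    intro q hq
    rcases eq_or_ne q p with rfl | hqp
    · rw [Nat.factorization_eq_zero_of_not_dvd fun hd => by
        have := Nat.dvd_gcd hd (dvd_refl q)
        rw [hcop] at this
        exact hp.out.not_dvd_one this, pow_zero]
      exact one_dvd _
    haveI := Fact.mk hq
    obtain ⟨Q, hQK, hQc, hQn⟩ := exists_normalized_sylow K₀
      (fun hd => hp.out.not_dvd_one (hcop ▸ Nat.dvd_gcd hd dvd_rfl)) hxP q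
    rw [← hQc]
    refine Subgroup.card_dvd_of_le fun g hg => ⟨hQK hg, Subgroup.mem_centralizer_singleton_iff.mpr ?_⟩
    by_contra hgy
    exact hc ⟨q, Q, hq, hqp.symm, IsPGroup.of_card hQc, hQn, g, hg, fun h => hgy h.symm.eq⟩
  have hCeq : C = K₀ := by
    refine Subgroup.eq_of_le_of_card_ge inf_le_left (Nat.le_of_dvd Nat.card_pos ?_)
    rw [← Nat.factorization_le_iff_dvd Nat.card_pos.ne' Nat.card_pos.ne']
    intro q
    by_cases hq : q.Prime
    · exact (hq.pow_dvd_iff_le_factorization Nat.card_pos.ne').mp (hall q hq)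
    · simp [Nat.factorization_eq_zero_of_not_prime _ hq]
  have hyC : y ∈ centralizer (K₀ : Set H) := Subgroup.mem_centralizer_iff.mpr fun g hg => by
    have : g ∈ C := hCeq.symm ▸ hg
    exact Subgroup.mem_centralizer_singleton_iff.mp this.2
  have hyK := Offender.centralizer_pPrimeCore_le hOp hsol hyC
  have h1 : p ∣ Nat.card K₀ := by
    have h2 := orderOf_dvd_natCard (⟨y, hyK⟩ : K₀)
    rwa [Subgroup.orderOf_mk, hyp] at h2
  exact hp.out.not_dvd_one (hcop ▸ Nat.dvd_gcd h1 dvd_rfl)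

universe u v

/-- Theorem B for a finite group acting faithfully. -/
theorem bound_faithful {F : Type u} [Field F] [CharP F p] {V : Type v} [AddCommGroup V] [Module F V]
    [FiniteDimensional F V] [Nontrivial V] (ρ : H →* End F V) (hρ : Function.Injective ρ)
    (hsol : IsPSolvable p H) (hOp : pCore p H = ⊥) {x : H} {n : ℕ} (hn : 1 ≤ n) (hx : orderOf x = p ^ n)
    (s : ℕ) (hs : (ρ x - 1) ^ s = 0) :
    ∃ q : ℕ, q.Prime ∧ Bound p q n s (∀ S : Sylow q H, ¬ IsMulCommutative S) := by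
  obtain ⟨q, Q, hq, hpq, hQ, hxQ, g, hg, hgy⟩ := exists_moved_subgroup hsol hOp hn hx
  haveI := Fact.mk hq
  refine ⟨q, hq, ?_⟩
  let A := AlgebraicClosure F
  haveI : CharP A p := charP_of_injective_algebraMap (algebraMap F A).injective p
  let B : End F V →ₐ[F] End A (A ⊗[F] V) := Module.End.baseChangeHom F A V
  have hB : Function.Injective B := LinearMap.baseChangeHom_injective F V A
  haveI : Nontrivial (A ⊗[F] V) := by
    by_contra h
    rw [not_nontrivial_iff_subsingleton] at h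
    exact zero_ne_one (hB (LinearMap.ext fun w => Subsingleton.elim (B 0 w) (B 1 w)))
  let σ : H →* End A (A ⊗[F] V) := (B : End F V →* End A (A ⊗[F] V)).comp ρ
  have hσ : Function.Injective σ := hB.comp hρ
  have hcomm : ∀ a b : H, Commute (σ a) (σ b) → Commute a b := fun a b h => by
    refine hσ ?_
    rw [map_mul, map_mul]; exact h.eq
  have hs' : (σ x - 1) ^ s = 0 := by
    show (B (ρ x) - 1) ^ s = 0
    rw [← map_one B, ← map_sub B, ← map_pow, hs, map_zero]
  refine (bound hp ⟨hq⟩ hpq (Nat.card Q) _ H (A ⊗[F] V) σ Q x n le_rfl le_rfl hQ hn (hx ▸ pow_orderOf_eq_one x) hxQ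
    ⟨g, hg, fun h => hgy (hcomm _ _ h)⟩ s hs').mono (Nat.zero_le n) (by rw [pow_zero, one_mul]) ?_
  rintro ⟨a, ha, b, hb, hab⟩ S hS
  obtain ⟨T, hT⟩ := hQ.exists_le_sylow
  refine hab (Commute.map ?_ σ)
  have hTc : IsMulCommutative T := by
    refine ⟨⟨fun u w => (T.equiv S).injective ?_⟩⟩
    rw [map_mul, map_mul]
    exact Std.Commutative.comm _ _
  have := hTc.is_comm.comm ⟨a, hT ha⟩ ⟨b, hT hb⟩
  exact congrArg Subtype.val this

end Cfsg.Agent.PLocal.TheoremB
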