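import Cfsg.Agent.Lib.PLocal.TheoremB.Twist

/-!
Theorem B of Hall and Higman for a normalized subgroup of prime power order.
-/

set_option linter.all false
set_option autoImplicit false

namespace Cfsg.Agent.PLocal.TheoremB

open Module (End finrank)

universe u v w

variable {G : Type u} [Group G] {K : Type w} [Field K] {V : Type v} [AddCommGroup V] [Module K V]
  {ρ : G →* End K V}

theorem apply_inv_apply (ρ : G →* End K V) (g : G) (v : V) : ρ g⁻¹ (ρ g v) = v := by
  rw [← Module.End.mul_apply, ← map_mul, inv_mul_cancel, map_one, Module.End.one_apply]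

theorem apply_apply_inv (ρ : G →* End K V) (g : G) (v : V) : ρ g (ρ g⁻¹ v) = v := by
  rw [← Module.End.mul_apply, ← map_mul, mul_inv_cancel, map_one, Module.End.one_apply]

/-- The stabilizer of a subspace. -/
def stab (ρ : G →* End K V) (W : Submodule K V) : Subgroup G where
  carrier := {g | (∀ w ∈ W, ρ g w ∈ W) ∧ ∀ w ∈ W, ρ g⁻¹ w ∈ W}
  one_mem' := by simp
  mul_mem' := by
    rintro a b ⟨ha, ha'⟩ ⟨hb, hb'⟩
    refine ⟨fun w hw => ?_, fun w hw => ?_⟩
    · rw [map_mul, Module.End.mul_apply]; exact ha _ (hb w hw)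
    · rw [mul_inv_rev, map_mul, Module.End.mul_apply]; exact hb' _ (ha' w hw)
  inv_mem' := by
    rintro a ⟨ha, ha'⟩
    exact ⟨ha', by rwa [inv_inv]⟩

theorem mem_stab [Finite G] {W : Submodule K V} {g : G} (h : ∀ w ∈ W, ρ g w ∈ W) : g ∈ stab ρ W := by
  have hpow : ∀ (i : ℕ) (w : V), w ∈ W → ρ (g ^ i) w ∈ W := by
    intro i
    induction i with
    | zero => intro w hw; simpa using hw
    | succ i ih => intro w hw; rw [pow_succ, map_mul, Module.End.mul_apply]; exact ih _ (h w hw)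
  refine ⟨h, fun w hw => ?_⟩
  rw [show g⁻¹ = g ^ (Nat.card G - 1) from inv_eq_of_mul_eq_one_right (by
    rw [← pow_succ', Nat.sub_add_cancel Nat.card_pos, pow_card_eq_one'])]
  exact hpow _ w hw

/-- The action of the stabilizer on the subspace. -/
def onSub (ρ : G →* End K V) (W : Submodule K V) : stab ρ W →* End K W where
  toFun g := (ρ (g : G)).restrict g.2.1
  map_one' := by ext w; simp [LinearMap.restrict_apply]
  map_mul' a b := by ext w; simp [LinearMap.restrict_apply]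

/-- The action of the stabilizer on the quotient by the subspace. -/
def onQuot (ρ : G →* End K V) (W : Submodule K V) : stab ρ W →* End K (V ⧸ W) where
  toFun g := W.mapQ W (ρ (g : G)) g.2.1
  map_one' := by ext w; simp
  map_mul' a b := by ext w; simp

theorem onSub_apply (W : Submodule K V) (g : stab ρ W) (w : W) :
    ((onSub ρ W g w : W) : V) = ρ (g : G) w := rfl

theorem onQuot_apply (W : Submodule K V) (g : stab ρ W) (v : V) :
    onQuot ρ W g (W.mkQ v) = W.mkQ (ρ (g : G) v) := rfl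

theorem onSub_sub_pow (W : Submodule K V) (g : stab ρ W) (s : ℕ) (w : W) :
    ((((onSub ρ W g - 1) ^ s) w : W) : V) = ((ρ (g : G) - 1) ^ s) w := by
  induction s generalizing w with
  | zero => simp
  | succ s ih =>
    rw [pow_succ, pow_succ, Module.End.mul_apply, Module.End.mul_apply, ih]
    congr 1

theorem onQuot_sub_pow (W : Submodule K V) (g : stab ρ W) (s : ℕ) (v : V) :
    ((onQuot ρ W g - 1) ^ s) (W.mkQ v) = W.mkQ (((ρ (g : G) - 1) ^ s) v) := by
  induction s generalizing v with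
  | zero => simp
  | succ s ih =>
    rw [pow_succ, pow_succ, Module.End.mul_apply, Module.End.mul_apply, ← ih]
    congr 1

variable [Finite G] {p q : ℕ} [hp : Fact p.Prime] [hq : Fact q.Prime] [CharP K p] {Q : Subgroup G} {x : G} {n : ℕ}

theorem Bound.mono {n k s r : ℕ} {NA NA' : Prop} (h : Bound p q (n - k) r NA) (hk : k ≤ n)
    (hs : p ^ k * r ≤ s) (hNA : NA → NA') : Bound p q n s NA' := by
  rcases h with h | ⟨n₀, m, h1, h2, h3, h4, h5, h6⟩
  · refine Or.inl (le_trans ?_ hs)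
    calc p ^ n = p ^ k * p ^ (n - k) := by rw [← pow_add]; congr 1; omega
      _ ≤ _ := Nat.mul_le_mul_left _ h
  · refine Or.inr ⟨n₀, m, h1, by omega, h3, h4, hNA h5, le_trans ?_ hs⟩
    calc p ^ (n - n₀) * (p ^ n₀ - 1) = p ^ k * (p ^ (n - k - n₀) * (p ^ n₀ - 1)) := by
          rw [← mul_assoc, ← pow_add]; congr 2; omega
      _ ≤ _ := Nat.mul_le_mul_left _ h6

/-- A `q`-element trivial on a subspace and on the quotient is trivial. -/
theorem eq_one_of_trivial (hQ : IsPGroup q Q) (hpq : p ≠ q) [Nontrivial V] (W : Submodule K V) {h : G} (hh : h ∈ Q)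
    (h1 : ∀ w ∈ W, ρ h w = w) (h2 : ∀ v, ρ h v - v ∈ W) : ρ h = 1 := by
  have hsq : (ρ h - 1) ^ 2 = 0 := by
    refine LinearMap.ext fun v => ?_
    rw [pow_two, Module.End.mul_apply]
    show ρ h (ρ h v - v) - (ρ h v - v) = 0
    rw [h1 _ (h2 v), sub_self]
  have hp1 := pow_pp_eq_one (K := K) (p := p) (n := 1) hsq (by rw [pow_one]; exact hp.out.two_le)
  rw [pow_one] at hp1
  obtain ⟨k, hk⟩ := hQ ⟨h, hh⟩
  have hqk : ρ h ^ q ^ k = 1 := by
    have := congrArg (fun a : Q => ρ (a : G)) hk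
    simpa using this
  have hcop : Nat.gcd p (q ^ k) = 1 := Nat.Coprime.pow_right k ((Nat.coprime_primes hp.out hq.out).mpr hpq)
  have h := pow_gcd_eq_one.mpr ⟨hp1, hqk⟩
  rwa [hcop, pow_one] at h

omit hp hq in
/-- Theorem B for a normalized `q`-subgroup. -/
theorem bound (hp : Fact p.Prime) (hq : Fact q.Prime) (hpq : p ≠ q) [IsAlgClosed K] :
    ∀ (N d : ℕ) (G : Type u) [Group G] [Finite G] (V : Type v) [AddCommGroup V] [Module K V] [FiniteDimensional K V]
      [Nontrivial V] (ρ : G →* End K V) (Q : Subgroup G) (x : G) (n : ℕ),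
      Nat.card Q ≤ N → finrank K V ≤ d → IsPGroup q Q → 1 ≤ n → x ^ p ^ n = 1 → Normalizes x Q →
      Moves ρ Q (x ^ p ^ (n - 1)) → ∀ s, (ρ x - 1) ^ s = 0 → Bound p q n s (NonAb ρ Q) := by
  intro N
  induction N using Nat.strong_induction_on with
  | _ N IHN =>
  intro d
  induction d using Nat.strong_induction_on with
  | _ d IHd =>
  intro G _ _ V _ _ _ _ ρ Q x n hN hd hQ hn hxP hxQ hmove s hs
  haveI := hp
  haveI := hq
  set y := x ^ p ^ (n - 1) with hy
  -- a smaller subgroup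
  by_cases hmin : Minimal ρ Q x y
  swap
  · simp only [Minimal, not_forall, Classical.not_not] at hmin
    obtain ⟨Q₁, hle, hne, hinv, hmv⟩ := hmin
    have hlt : Nat.card Q₁ < Nat.card Q :=
      lt_of_le_of_ne (Subgroup.card_le_of_le hle) fun he => hne (Subgroup.eq_of_le_of_card_ge hle he.ge)
    refine (IHN _ (hlt.trans_le hN) d G V ρ Q₁ x n le_rfl hd (hQ.to_le hle) hn hxP hinv hmv s hs).mono
      (Nat.zero_le n) (by rw [pow_zero, one_mul]) ?_
    rintro ⟨a, ha, b, hb, hab⟩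
    exact ⟨a, hle ha, b, hle hb, hab⟩
  -- pieces
  have hyQ : Normalizes y Q := hxQ.pow _
  have hQL : ∀ {W : Submodule K V}, (∀ g ∈ Q, ∀ w ∈ W, ρ g w ∈ W) → Q ≤ stab ρ W :=
    fun hW g hg => mem_stab (hW g hg)
  have descend : ∀ (k : ℕ), k < n → ∀ (W : Submodule K V) (hW : ∀ g ∈ Q, ∀ w ∈ W, ρ g w ∈ W)
      (hx' : x ^ p ^ k ∈ stab ρ W) (X : Type v) [AddCommGroup X] [Module K X] [FiniteDimensional K X] [Nontrivial X]
      (σ : stab ρ W →* End K X), finrank K X < d → (∀ a b : stab ρ W, Commute (ρ (a : G)) (ρ (b : G)) → Commute (σ a) (σ b)) →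
      Moves σ (Q.subgroupOf (stab ρ W)) ((⟨x ^ p ^ k, hx'⟩ : stab ρ W) ^ p ^ (n - k - 1)) →
      ∀ r, (σ ⟨x ^ p ^ k, hx'⟩ - 1) ^ r = 0 → Bound p q (n - k) r (NonAb ρ Q) := by
    intro k hk W hW hx' X _ _ _ _ σ hdim hcom hmv r hr
    have hcard : Nat.card (Q.subgroupOf (stab ρ W)) = Nat.card Q :=
      Nat.card_congr (Subgroup.subgroupOfEquivOfLe (hQL hW)).toEquiv
    refine (IHd (finrank K X) hdim (stab ρ W) X σ (Q.subgroupOf (stab ρ W)) ⟨x ^ p ^ k, hx'⟩ (n - k) (hcard.le.trans hN) le_rfl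
      (hQ.of_equiv (Subgroup.subgroupOfEquivOfLe (hQL hW)).symm) (by omega) (Subtype.ext ?_) ?_ hmv r hr).mono
      (k := 0) (Nat.zero_le _) (by rw [pow_zero, one_mul]) ?_
    · rw [SubmonoidClass.coe_pow, Subgroup.coe_one]
      show (x ^ p ^ k) ^ p ^ (n - k) = 1
      rw [← pow_mul, ← pow_add, Nat.add_sub_cancel' hk.le, hxP]
    · intro g hg
      exact Subgroup.mem_subgroupOf.mpr (hxQ.pow _ _ (Subgroup.mem_subgroupOf.mp hg))
    · rintro ⟨a, ha, b, hb, hab⟩
      exact ⟨a, ha, b, hb, fun h => hab (hcom a b h)⟩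
  have hyk : ∀ k < n, (x ^ p ^ k) ^ p ^ (n - k - 1) = y := by
    intro k hk
    rw [hy, ← pow_mul, ← pow_add]
    congr 2
    omega
  -- a reducible module
  by_cases hred : ∃ W : Submodule K V, W ≠ ⊥ ∧ W ≠ ⊤ ∧ (∀ g ∈ Q, ∀ w ∈ W, ρ g w ∈ W) ∧ ∀ w ∈ W, ρ x w ∈ W
  · obtain ⟨W, hW0, hW1, hWQ, hWx⟩ := hred
    have hx' : x ^ p ^ 0 ∈ stab ρ W := by rw [pow_zero, pow_one]; exact mem_stab hWx
    have hsum := W.finrank_quotient_add_finrank
    haveI : Nontrivial W := Submodule.nontrivial_iff_ne_bot.mpr hW0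
    haveI : Nontrivial (V ⧸ W) := Submodule.Quotient.nontrivial_iff.mpr hW1
    have hd1 : 0 < finrank K W := Module.finrank_pos
    have hd2 : 0 < finrank K (V ⧸ W) := Module.finrank_pos
    by_cases hm1 : Moves (onSub ρ W) (Q.subgroupOf (stab ρ W)) ((⟨x ^ p ^ 0, hx'⟩ : stab ρ W) ^ p ^ (n - 0 - 1))
    · refine (descend 0 (by omega) W hWQ hx' W (onSub ρ W) (by omega) (fun a b h => ?_) hm1 s ?_).mono
        (Nat.zero_le n) (by rw [pow_zero, one_mul]) id
      · refine LinearMap.ext fun w => Subtype.ext ?_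
        exact LinearMap.congr_fun h (w : V)
      · refine LinearMap.ext fun w => Subtype.ext ?_
        rw [onSub_sub_pow]
        simp [hs]
    by_cases hm2 : Moves (onQuot ρ W) (Q.subgroupOf (stab ρ W)) ((⟨x ^ p ^ 0, hx'⟩ : stab ρ W) ^ p ^ (n - 0 - 1))
    · refine (descend 0 (by omega) W hWQ hx' (V ⧸ W) (onQuot ρ W) (by omega) (fun a b h => ?_) hm2 s ?_).mono
        (Nat.zero_le n) (by rw [pow_zero, one_mul]) id
      · refine LinearMap.ext fun w => ?_
        obtain ⟨v, rfl⟩ := W.mkQ_surjective w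
        simp only [Module.End.mul_apply, onQuot_apply]
        exact congrArg W.mkQ (LinearMap.congr_fun h v)
      · refine LinearMap.ext fun w => ?_
        obtain ⟨v, rfl⟩ := W.mkQ_surjective w
        rw [onQuot_sub_pow]
        simp [hs]
    exfalso
    obtain ⟨g, hg, hng⟩ := hmove
    simp only [Moves, not_exists, not_and, Classical.not_not] at hm1 hm2
    set Y : stab ρ W := (⟨x ^ p ^ 0, hx'⟩ : stab ρ W) ^ p ^ (n - 0 - 1) with hYdef
    have hY : ((Y : stab ρ W) : G) = y := by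
      rw [hYdef, SubmonoidClass.coe_pow]
      exact hyk 0 (by omega)
    set gg : stab ρ W := ⟨g, hQL hWQ hg⟩
    have c1 : ∀ w ∈ W, ρ y (ρ g w) = ρ g (ρ y w) := fun w hw => by
      have := congrArg Subtype.val (LinearMap.congr_fun (hm1 gg (Subgroup.mem_subgroupOf.mpr hg)) ⟨w, hw⟩)
      rw [Module.End.mul_apply, Module.End.mul_apply, onSub_apply, onSub_apply, onSub_apply, onSub_apply, hY] at this
      exact this
    have c2 : ∀ v, ρ y (ρ g v) - ρ g (ρ y v) ∈ W := fun v => by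
      have := LinearMap.congr_fun (hm2 gg (Subgroup.mem_subgroupOf.mpr hg)) (W.mkQ v)
      rw [Module.End.mul_apply, Module.End.mul_apply, onQuot_apply, onQuot_apply, onQuot_apply, onQuot_apply, hY] at this
      exact (Submodule.Quotient.eq W).mp this
    have hinvW : ∀ {a : G}, a ∈ stab ρ W → ∀ w ∈ W, ρ a⁻¹ w ∈ W := fun ha => ha.2
    have hyW : y ∈ stab ρ W := hY ▸ Y.2
    have hh : y * g * y⁻¹ * g⁻¹ ∈ Q := mul_mem (hyQ g hg) (inv_mem hg)
    have happ : ∀ v, ρ (y * g * y⁻¹ * g⁻¹) v = ρ y (ρ g (ρ y⁻¹ (ρ g⁻¹ v))) := fun v => by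
      simp only [map_mul, Module.End.mul_apply]
    have hv' : ∀ v, ρ g (ρ y (ρ y⁻¹ (ρ g⁻¹ v))) = v := fun v => by rw [apply_apply_inv, apply_apply_inv]
    have h1 := eq_one_of_trivial (p := p) (ρ := ρ) hQ hpq W hh
      (fun w hw => by
        rw [happ, c1 _ (hinvW hyW _ (hinvW (hQL hWQ hg) _ hw)), hv'])
      (fun v => by
        rw [happ]
        conv in _ - v => arg 2; rw [← hv' v]
        exact c2 _)
    refine hng ?_
    show ρ y * ρ g = ρ g * ρ y
    rw [← map_mul, ← map_mul, show y * g = y * g * y⁻¹ * g⁻¹ * (g * y) by group, map_mul ρ (y * g * y⁻¹ * g⁻¹), h1,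
      one_mul]
  push Not at hred
  obtain ⟨k, hk, U, hU0, hUQ, hUx, hUirr, hUtop, hUsum, -⟩ := inertia_constituent (ρ := ρ) (Q := Q) hxP hxQ
  rcases Nat.eq_zero_or_pos k with rfl | hk1
  · -- the primitive case
    have htop : U = ⊤ := by
      by_contra h
      obtain ⟨w, hw, hw'⟩ := hred U hU0 h hUQ
      have := hUx w hw
      rw [pow_zero, pow_one] at this
      exact hw' this
    subst htop
    exact primitive_case hQ hpq hxP hn hxQ hmove hmin (fun W hW => hUirr W le_top hW) s hs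
  haveI : Nontrivial U := Submodule.nontrivial_iff_ne_bot.mpr hU0
  -- the exponent of the translates
  have hblock : ∀ w ∈ U, ∀ r : ℕ, ((ρ (x ^ p ^ k) - 1) ^ r : End K V) w ∈ U := by
    intro w hw r
    induction r with
    | zero => simpa using hw
    | succ r ih =>
      rw [pow_succ', Module.End.mul_apply, LinearMap.sub_apply, Module.End.one_apply]
      exact U.sub_mem (hUx _ ih) ih
  have hzero : ∀ r : ℕ, p ^ k * r + (p ^ k - 1) ≥ s → ∀ w ∈ U, ((ρ (x ^ p ^ k) - 1) ^ r : End K V) w = 0 := by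
    intro r hr w hw
    by_contra h
    refine hUsum _ (hblock w hw r) h ?_
    haveI : CharP (End K V) p := charP_of_injective_algebraMap (algebraMap K (End K V)).injective p
    have e1 : ρ (x ^ p ^ k) - 1 = (ρ x - 1) ^ p ^ k := by
      rw [sub_pow_char_pow_of_commute p k (Commute.one_right _), one_pow, map_pow]
    have e2 : (∑ i ∈ Finset.range (p ^ k), ρ (x ^ i)) = (ρ x - 1) ^ (p ^ k - 1) := by
      rw [← geom_sum_eq_pow (K := K)]
      exact Finset.sum_congr rfl fun i _ => map_pow ρ x i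
    rw [← LinearMap.sum_apply, e2, e1, ← pow_mul, ← Module.End.mul_apply, ← pow_add,
      pow_eq_zero_of_le (by omega) hs, LinearMap.zero_apply]
  rcases lt_or_eq_of_le hk with hkn | hkn
  swap
  · -- a free orbit
    subst hkn
    refine Or.inl ?_
    by_contra hlt
    obtain ⟨w, hw⟩ := exists_ne (0 : U)
    refine hw (Subtype.ext ?_)
    simpa using hzero 0 (by omega) w w.2
  -- descent to the inertia group
  have hx' : x ^ p ^ k ∈ stab ρ U := mem_stab hUx
  have hdim : finrank K U < d := lt_of_lt_of_le (Submodule.finrank_lt (hUtop hk1)) hd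
  have hmv : Moves (onSub ρ U) (Q.subgroupOf (stab ρ U)) ((⟨x ^ p ^ k, hx'⟩ : stab ρ U) ^ p ^ (n - k - 1)) := by
    by_contra hc
    simp only [Moves, not_exists, not_and, Classical.not_not] at hc
    let M : Submodule K V := ⨅ g ∈ Q, LinearMap.ker (ρ y * ρ g - ρ g * ρ y)
    have hM : ∀ v, v ∈ M ↔ ∀ g ∈ Q, ρ (y * g) v = ρ (g * y) v := fun v => by
      simp [M, Submodule.mem_iInf, sub_eq_zero]
    have hUM : U ≤ M := fun w hw => (hM w).mpr fun g hg => by
      have := congrArg Subtype.val (LinearMap.congr_fun (hc ⟨g, hQL hUQ hg⟩ (Subgroup.mem_subgroupOf.mpr hg)) ⟨w, hw⟩)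
      rw [Module.End.mul_apply, Module.End.mul_apply, onSub_apply, onSub_apply, onSub_apply, onSub_apply,
        SubmonoidClass.coe_pow] at this
      rw [map_mul, map_mul, Module.End.mul_apply, Module.End.mul_apply]
      simp only [hyk k hkn] at this
      exact this
    have hMQ : ∀ h ∈ Q, ∀ v ∈ M, ρ h v ∈ M := fun h hh v hv => (hM _).mpr fun g hg => by
      rw [← Module.End.mul_apply, ← map_mul, mul_assoc, (hM v).mp hv (g * h) (mul_mem hg hh), mul_assoc, map_mul ρ g,
        Module.End.mul_apply, ← (hM v).mp hv h hh, ← Module.End.mul_apply, ← map_mul, ← Module.End.mul_apply,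
        ← map_mul, mul_assoc]
    have hxy : Commute x y := (Commute.refl x).pow_right _
    have hxinv : Normalizes x⁻¹ Q := by
      rw [show x⁻¹ = x ^ (p ^ n - 1) from inv_eq_of_mul_eq_one_right (by
        rw [← pow_succ', Nat.sub_add_cancel (Nat.one_le_pow _ _ hp.out.pos), hxP])]
      exact hxQ.pow _
    have hMx : ∀ v ∈ M, ρ x v ∈ M := fun v hv => (hM _).mpr fun g hg => by
      have hg' : x⁻¹ * g * x⁻¹⁻¹ ∈ Q := hxinv g hg
      have h1 := congrArg (ρ x) ((hM v).mp hv _ hg')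
      rw [← Module.End.mul_apply, ← map_mul, ← Module.End.mul_apply, ← map_mul] at h1 ⊢
      rw [show x * (y * (x⁻¹ * g * x⁻¹⁻¹)) = y * g * x by rw [← mul_assoc, hxy.eq]; group,
        show x * (x⁻¹ * g * x⁻¹⁻¹ * y) = g * (x * y) by group, hxy.eq, ← mul_assoc g y x] at h1
      exact h1
    have hM0 : M ≠ ⊥ := fun h => hU0 (le_bot_iff.mp (h ▸ hUM))
    by_cases hMtop : M = ⊤
    · obtain ⟨g, hg, hng⟩ := hmove
      refine hng (LinearMap.ext fun v => ?_)
      have := (hM v).mp (hMtop ▸ Submodule.mem_top) g hg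
      rwa [map_mul, map_mul] at this
    · obtain ⟨w, hw, hw'⟩ := hred M hM0 hMtop hMQ
      exact hw' (hMx w hw)
  classical
  have hex : ∃ r, (onSub ρ U ⟨x ^ p ^ k, hx'⟩ - 1) ^ r = 0 := by
    refine ⟨s, LinearMap.ext fun w => Subtype.ext ?_⟩
    rw [onSub_sub_pow]
    simpa using hzero s (le_add_right (Nat.le_mul_of_pos_left s (Nat.pow_pos hp.out.pos))) w w.2
  refine (descend k hkn U hUQ hx' U (onSub ρ U) hdim (fun a b h => ?_) hmv (Nat.find hex) (Nat.find_spec hex)).mono
    hk ?_ id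
  · refine LinearMap.ext fun w => Subtype.ext ?_
    exact LinearMap.congr_fun h (w : V)
  · by_contra hlt
    have hr0 : Nat.find hex ≠ 0 := fun h0 => by rw [h0, Nat.mul_zero] at hlt; omega
    refine Nat.find_min hex (m := Nat.find hex - 1) (by omega) (LinearMap.ext fun w => Subtype.ext ?_)
    rw [onSub_sub_pow]
    refine (hzero _ ?_ w w.2).trans (by simp)
    rw [Nat.mul_sub, mul_one]
    have := Nat.le_mul_of_pos_right (p ^ k) (Nat.pos_of_ne_zero hr0)
    omega

end Cfsg.Agent.PLocal.TheoremB
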