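import Cfsg.Agent.Lib.PLocal.TheoremB.Jordan

/-!
Irreducible linear groups: scalars, density, traces.
-/

set_option linter.all false
set_option autoImplicit false

namespace Cfsg.Agent.PLocal.TheoremB

open Module (End finrank)
open scoped commutatorElement TensorProduct

variable {G : Type*} [Group G] {K : Type*} [Field K] {V : Type*} [AddCommGroup V] [Module K V]

/-- `Q` leaves only the trivial subspaces invariant. -/
def QIrred (ρ : G →* End K V) (Q : Subgroup G) : Prop :=
  ∀ W : Submodule K V, (∀ g ∈ Q, ∀ w ∈ W, ρ g w ∈ W) → W = ⊥ ∨ W = ⊤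

theorem scalar_ne_zero [Nontrivial V] {ρ : G →* End K V} {g : G} {c : K} (h : ρ g = c • 1) : c ≠ 0 := by
  rintro rfl
  have : ρ g * ρ g⁻¹ = 1 := by rw [← map_mul, mul_inv_cancel, map_one]
  rw [h, zero_smul, zero_mul] at this
  exact zero_ne_one this

/-- The elements acting as scalars. -/
def scalars (ρ : G →* End K V) [Nontrivial V] : Subgroup G where
  carrier := {g | ∃ c : K, ρ g = c • 1}
  one_mem' := ⟨1, by simp⟩
  mul_mem' := by
    rintro a b ⟨c, hc⟩ ⟨d, hd⟩
    exact ⟨c * d, by rw [map_mul, hc, hd]; simp [smul_smul, mul_comm]⟩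
  inv_mem' := by
    rintro a ⟨c, hc⟩
    refine ⟨c⁻¹, ?_⟩
    have h1 : ρ a⁻¹ * ρ a = 1 := by rw [← map_mul, inv_mul_cancel, map_one]
    rw [hc, mul_smul_comm, mul_one] at h1
    rw [← h1, smul_smul, inv_mul_cancel₀ (scalar_ne_zero hc), one_smul]

theorem mem_scalars [Nontrivial V] {ρ : G →* End K V} {g : G} : g ∈ scalars ρ ↔ ∃ c : K, ρ g = c • 1 :=
  Iff.rfl

instance scalars_normal [Nontrivial V] (ρ : G →* End K V) : (scalars ρ).Normal := by
  refine ⟨fun a ⟨c, hc⟩ g => ⟨c, ?_⟩⟩
  rw [map_mul, map_mul, hc, mul_smul_comm, mul_one, smul_mul_assoc, ← map_mul, mul_inv_cancel, map_one]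

variable [FiniteDimensional K V] [Nontrivial V] [IsAlgClosed K] {ρ : G →* End K V} {Q : Subgroup G}

theorem schur (h : QIrred ρ Q) (f : End K V) (hf : ∀ g ∈ Q, Commute f (ρ g)) : ∃ c : K, f = c • 1 := by
  obtain ⟨c, hc⟩ := Module.End.exists_eigenvalue f
  refine ⟨c, LinearMap.ext fun v => ?_⟩
  rcases h (f.eigenspace c) (fun g hg w hw => by
    rw [Module.End.mem_eigenspace_iff] at hw ⊢
    rw [← Module.End.mul_apply, (hf g hg).eq, Module.End.mul_apply, hw, map_smul]) with e | e
  · exact absurd e hc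
  · have : v ∈ f.eigenspace c := e ▸ Submodule.mem_top
    simpa using Module.End.mem_eigenspace_iff.mp this

theorem density (h : QIrred ρ Q) (f : End K V) : f ∈ Submodule.span K (ρ '' (Q : Set G)) := by
  set A := Algebra.adjoin K (ρ '' (Q : Set G)) with hA
  have hgen : ∀ g ∈ Q, ρ g ∈ A := fun g hg => Algebra.subset_adjoin ⟨g, hg, rfl⟩
  haveI : IsSimpleModule A V := by
    rw [isSimpleModule_iff]
    refine ⟨fun W => ?_⟩
    rcases h (W.restrictScalars K) (fun g hg w hw => W.smul_mem (⟨ρ g, hgen g hg⟩ : A) hw) with e | e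
    · exact Or.inl ((Submodule.restrictScalars_eq_bot_iff K A V).mp e)
    · exact Or.inr ((Submodule.restrictScalars_eq_top_iff K A V).mp e)
  have hend : ∀ φ : End A V, ∃ c : K, ∀ v, φ v = c • v := by
    intro φ
    obtain ⟨c, hc⟩ := schur h (φ.restrictScalars K) (fun g hg => LinearMap.ext fun v => by
      exact φ.map_smul (⟨ρ g, hgen g hg⟩ : A) v)
    exact ⟨c, fun v => by simpa using LinearMap.congr_fun hc v⟩
  let f' : End (End A V) V :=
    { toFun := f
      map_add' := f.map_add
      map_smul' := fun φ v => by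
        obtain ⟨c, hc⟩ := hend φ
        simp [hc] }
  obtain ⟨s, hs⟩ := Module.Finite.fg_top (R := K) (M := V)
  obtain ⟨a, ha⟩ := jacobson_density f' s
  have hfa : f = (a : End K V) := LinearMap.ext_on (show Submodule.span K (s : Set V) = ⊤ from hs) fun m hm => ha m hm
  rw [hfa]
  have hspan : Subalgebra.toSubmodule A = Submodule.span K (Submonoid.closure (ρ '' (Q : Set G))) :=
    Algebra.adjoin_eq_span ..
  have hmem : (a : End K V) ∈ Submodule.span K (Submonoid.closure (ρ '' (Q : Set G)) : Set (End K V)) :=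
    hspan.le a.2
  refine Submodule.span_mono ?_ hmem
  rw [show ρ '' (Q : Set G) = ((Q.toSubmonoid.map ρ : Submonoid (End K V)) : Set (End K V)) from rfl,
    Submonoid.closure_eq]

theorem trace_eq_zero (h : QIrred ρ Q) {g : G}
    (hcomm : ∀ k ∈ Q, ⁅k, g⁆ ∈ scalars ρ) (hg : g ∉ scalars ρ) : LinearMap.trace K V (ρ g) = 0 := by
  obtain ⟨k, hk, hne⟩ : ∃ k ∈ Q, ¬ Commute (ρ g) (ρ k) := by
    by_contra hc
    push Not at hc
    exact hg (schur h _ hc)
  obtain ⟨c, hc⟩ := hcomm k hk
  have e : ρ (k * g * k⁻¹) = c • ρ g := by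
    rw [show k * g * k⁻¹ = ⁅k, g⁆ * g by simp [commutatorElement_def], map_mul, hc, smul_mul_assoc, one_mul]
  have hc1 : c ≠ 1 := by
    rintro rfl
    rw [one_smul] at e
    refine hne ?_
    show ρ g * ρ k = ρ k * ρ g
    conv_lhs => rw [← e, ← map_mul, inv_mul_cancel_right, map_mul]
  have ht : LinearMap.trace K V (ρ (k * g * k⁻¹)) = LinearMap.trace K V (ρ g) := by
    rw [map_mul, LinearMap.trace_mul_comm, ← map_mul, ← mul_assoc, inv_mul_cancel, one_mul]
  rw [e, map_smul, smul_eq_mul, mul_left_eq_self₀] at ht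
  exact ht.resolve_left hc1

theorem dim_ne_zero (h : QIrred ρ Q) (hcomm : ∀ a ∈ Q, ∀ b ∈ Q, ⁅a, b⁆ ∈ scalars ρ) :
    (finrank K V : K) ≠ 0 := by
  intro h0
  have hz : ∀ f : End K V, LinearMap.trace K V f = 0 := by
    intro f
    refine Submodule.span_induction (p := fun f _ => LinearMap.trace K V f = 0) ?_ (map_zero _)
      (fun a b _ _ ha hb => by rw [map_add, ha, hb, add_zero]) (fun c a _ ha => by rw [map_smul, ha, smul_zero])
      (density h f)
    rintro _ ⟨g, hg, rfl⟩
    by_cases hgs : g ∈ scalars ρ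
    · obtain ⟨c, hc⟩ := hgs
      rw [hc, map_smul, LinearMap.trace_one, h0, smul_zero]
    · exact trace_eq_zero h (fun k hk => hcomm k hk g hg) hgs
  obtain ⟨v, hv⟩ := exists_ne (0 : V)
  obtain ⟨lam, hlam⟩ : ∃ lam : Module.Dual K V, lam v ≠ 0 := by
    by_contra hc
    push Not at hc
    exact hv ((Module.forall_dual_apply_eq_zero_iff K _).mp hc)
  refine hlam ?_
  rw [← hz (lam.smulRight v)]
  have : lam.smulRight v = (dualTensorHom K V V) (lam ⊗ₜ[K] v) := by ext; simp
  rw [this, LinearMap.trace_eq_contract_apply, contractLeft_apply]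

variable [Finite G]

/-- The dimension squared is the index of the scalars in `Q`. -/
theorem finrank_sq (h : QIrred ρ Q) (hcomm : ∀ a ∈ Q, ∀ b ∈ Q, ⁅a, b⁆ ∈ scalars ρ) :
    finrank K V * finrank K V = ((scalars ρ).subgroupOf Q).index := by
  classical
  set S := (scalars ρ).subgroupOf Q with hS
  haveI := Fintype.ofFinite (Q ⧸ S)
  let b : Q ⧸ S → End K V := fun a => ρ ((a.out : Q) : G)
  have hli : LinearIndependent K b := by
    rw [Fintype.linearIndependent_iff]
    intro c hc a
    have := congrArg (fun f => LinearMap.trace K V (ρ ((a.out : Q) : G)⁻¹ * f)) hc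
    simp only [Finset.mul_sum, mul_smul_comm, map_sum, map_smul, mul_zero, map_zero, smul_eq_mul] at this
    rw [Finset.sum_eq_single a] at this
    · rw [show ρ ((a.out : Q) : G)⁻¹ * b a = 1 by rw [← map_mul, inv_mul_cancel, map_one],
        LinearMap.trace_one] at this
      exact (mul_eq_zero.mp this).resolve_right (dim_ne_zero h hcomm)
    · intro d _ hd
      have hmem : (d.out : Q) = (d.out : Q) := rfl
      rw [← map_mul, trace_eq_zero h, mul_zero]
      · exact fun k hk => hcomm k hk _ (mul_mem (inv_mem a.out.2) d.out.2)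
      · intro hm
        refine hd ?_
        have h2 : (a.out : Q)⁻¹ * d.out ∈ S := hm
        rw [← QuotientGroup.eq, QuotientGroup.out_eq', QuotientGroup.out_eq'] at h2
        exact h2.symm
    · simp
  have hsp : ⊤ ≤ Submodule.span K (Set.range b) := by
    intro f _
    refine Submodule.span_le.mpr ?_ (density h f)
    rintro _ ⟨g, hg, rfl⟩
    set a : Q ⧸ S := QuotientGroup.mk (⟨g, hg⟩ : Q) with ha
    have h2 : (a.out : Q)⁻¹ * ⟨g, hg⟩ ∈ S := QuotientGroup.eq.mp (QuotientGroup.out_eq' a)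
    obtain ⟨c, hc⟩ := (Subgroup.mem_subgroupOf.mp h2 : _ ∈ scalars ρ)
    have e : ρ g = c • b a := by
      calc ρ g = ρ ((a.out : Q) : G) * ρ (((a.out : Q) : G)⁻¹ * g) := by rw [← map_mul, mul_inv_cancel_left]
        _ = _ := by simp only [Subgroup.coe_mul, Subgroup.coe_inv] at hc; rw [hc, mul_smul_comm, mul_one]
    rw [e]
    exact Submodule.smul_mem _ _ (Submodule.subset_span ⟨a, rfl⟩)
  rw [← Module.finrank_linearMap K K V V, Module.finrank_eq_card_basis (Module.Basis.mk hli hsp),
    Subgroup.index, Nat.card_eq_fintype_card]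

end Cfsg.Agent.PLocal.TheoremB
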