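import Mathlib

/-!
A unipotent endomorphism whose commutant consists of scalars and traces is a single Jordan block.
-/

set_option linter.all false
set_option autoImplicit false

namespace Cfsg.Agent.PLocal.TheoremB

open Module (End finrank)

variable {K : Type*} [Field K] {p : ℕ} [Fact p.Prime] [CharP K p]

theorem geom_sum_eq_pow {A : Type*} [Ring A] [Algebra K A] (n : ℕ) (a : A) :
    ∑ i ∈ Finset.range (p ^ n), a ^ i = (a - 1) ^ (p ^ n - 1) := by
  have h : (∑ i ∈ Finset.range (p ^ n), (Polynomial.X : Polynomial K) ^ i) =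
      (Polynomial.X - 1) ^ (p ^ n - 1) := by
    refine mul_right_cancel₀ (b := (Polynomial.X - 1 : Polynomial K))
      (by simpa using Polynomial.X_sub_C_ne_zero (1 : K)) ?_
    rw [geom_sum_mul, ← pow_succ, Nat.sub_add_cancel (Nat.one_le_pow _ _ (Fact.out : p.Prime).pos),
      sub_pow_char_pow, one_pow]
  simpa using congrArg (Polynomial.aeval a) h

theorem pow_pp_eq_one {A : Type*} [Ring A] [Algebra K A] [Nontrivial A] {n : ℕ} {a : A} {r : ℕ}
    (hr : (a - 1) ^ r = 0) (hle : r ≤ p ^ n) : a ^ p ^ n = 1 := by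
  haveI : CharP A p := charP_of_injective_algebraMap (algebraMap K A).injective p
  have h : (a - 1) ^ p ^ n = 0 := pow_eq_zero_of_le hle hr
  rw [sub_pow_char_pow_of_commute p n (Commute.one_right a), one_pow, sub_eq_zero] at h
  exact h

variable {V : Type*} [AddCommGroup V] [Module K V]

/-- Conjugation by `a` as a linear map. -/
def conjBy (a b : End K V) : End K (End K V) := LinearMap.mulLeft K a ∘ₗ LinearMap.mulRight K b

theorem conjBy_apply (a b φ : End K V) : conjBy a b φ = a * φ * b := by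
  simp [conjBy, mul_assoc]

theorem conjBy_pow_apply (a b φ : End K V) (i : ℕ) : (conjBy a b ^ i) φ = a ^ i * φ * b ^ i := by
  induction i with
  | zero => simp
  | succ i ih =>
    rw [pow_succ', Module.End.mul_apply, ih, conjBy_apply, pow_succ' a, pow_succ b]
    simp only [mul_assoc]

theorem range_pow_le {J : End K V} {m k : ℕ} (h : k ≤ m) :
    LinearMap.range (J ^ m) ≤ LinearMap.range (J ^ k) := by
  obtain ⟨d, rfl⟩ := Nat.exists_eq_add_of_le h
  rw [pow_add]
  exact LinearMap.range_comp_le_range _ _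

theorem conj_range {X Xi : End K V} (h1 : X * Xi = 1) (h2 : Xi * X = 1) {r : ℕ} (hr : (X - 1) ^ r = 0)
    (k : ℕ) : ∀ (a b : ℕ) (ψ : End K V) (w : V),
      ((conjBy X Xi - 1) ^ k) ((X - 1) ^ a * ψ * (X - 1) ^ b) w ∈
        LinearMap.range ((X - 1) ^ (a + b + k - (r - 1))) := by
  set J := X - 1 with hJ
  have hXi : Commute J Xi := by
    rw [hJ]; refine Commute.sub_left (h1.trans h2.symm) (Commute.one_left Xi)
  induction k with
  | zero =>
    intro a b ψ w
    rw [pow_zero, Module.End.one_apply]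
    by_cases hb : r ≤ b
    · rw [pow_eq_zero_of_le hb hr, mul_zero, LinearMap.zero_apply]
      exact Submodule.zero_mem _
    · refine range_pow_le (show a + b + 0 - (r - 1) ≤ a by omega) ?_
      exact ⟨(ψ * J ^ b) w, by simp [mul_assoc]⟩
  | succ k ih =>
    intro a b ψ w
    have e : (conjBy X Xi - 1) (J ^ a * ψ * J ^ b) =
        J ^ (a + 1) * (ψ * Xi) * J ^ b - J ^ a * (ψ * Xi) * J ^ (b + 1) := by
      rw [LinearMap.sub_apply, Module.End.one_apply, conjBy_apply]
      have hX : X = J + 1 := by rw [hJ, sub_add_cancel]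
      have hb' : J ^ b * Xi = Xi * J ^ b := (hXi.pow_left b).eq
      have hone : J ^ a * ψ * J ^ b = J ^ a * (ψ * Xi) * J ^ b + J ^ a * (ψ * Xi) * J ^ (b + 1) := by
        have : Xi * (J + 1) = 1 := by rw [← hX, h2]
        calc J ^ a * ψ * J ^ b = J ^ a * ψ * (Xi * (J + 1)) * J ^ b := by rw [this, mul_one]
          _ = _ := by rw [pow_succ']; noncomm_ring
      rw [hone]
      conv_lhs => arg 1; rw [← hone, show X * (J ^ a * ψ * J ^ b) * Xi = (J + 1) * J ^ a * ψ * (J ^ b * Xi) by
        rw [← hX]; simp only [mul_assoc], hb']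
      rw [show J ^ (a + 1) = J * J ^ a from pow_succ' J a]
      noncomm_ring
    rw [pow_succ, Module.End.mul_apply, e, map_sub, LinearMap.sub_apply]
    refine Submodule.sub_mem _ ?_ ?_
    · convert ih (a + 1) b (ψ * Xi) w using 4; omega
    · convert ih a (b + 1) (ψ * Xi) w using 4; omega

/-- The trace of `φ` over the powers of `X`. -/
noncomputable def trP (X : End K V) (P : ℕ) (φ : End K V) : End K V :=
  ∑ i ∈ Finset.range P, X ^ i * φ * (X ^ (P - 1)) ^ i

theorem trP_range {X : End K V} {n r : ℕ} (hr : (X - 1) ^ r = 0) (hrP : r ≤ p ^ n) (φ : End K V) (w : V) :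
    trP X (p ^ n) φ w ∈ LinearMap.range ((X - 1) ^ (p ^ n - r)) := by
  rcases subsingleton_or_nontrivial V with hV | hV
  · rw [Subsingleton.elim (trP X (p ^ n) φ w) 0]; exact Submodule.zero_mem _
  have hP1 : 1 ≤ p ^ n := Nat.one_le_pow _ _ (Fact.out : p.Prime).pos
  have hXP := pow_pp_eq_one (K := K) hr hrP
  have hr0 : 1 ≤ r := Nat.one_le_iff_ne_zero.mpr fun h0 => by rw [h0, pow_zero] at hr; exact one_ne_zero hr
  have h1 : X * X ^ (p ^ n - 1) = 1 := by rw [← pow_succ', Nat.sub_add_cancel hP1, hXP]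
  have h2 : X ^ (p ^ n - 1) * X = 1 := by rw [← pow_succ, Nat.sub_add_cancel hP1, hXP]
  have h := conj_range h1 h2 hr (p ^ n - 1) 0 0 φ w
  rw [← geom_sum_eq_pow (K := K), pow_zero, one_mul, mul_one, LinearMap.sum_apply,
    show 0 + 0 + (p ^ n - 1) - (r - 1) = p ^ n - r by omega] at h
  simpa only [trP, conjBy_pow_apply] using h

theorem commuting_range {J f : End K V} (hf : Commute J f) (h : ∀ w, f w ∈ LinearMap.range J) (m : ℕ) :
    ∀ w, (f ^ m) w ∈ LinearMap.range (J ^ m) := by
  induction m with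
  | zero => intro w; exact ⟨w, by simp⟩
  | succ m ih =>
    intro w
    obtain ⟨u, hu⟩ := ih w
    obtain ⟨v, hv⟩ := h u
    refine ⟨v, ?_⟩
    rw [pow_succ' f, Module.End.mul_apply, ← hu, ← Module.End.mul_apply, ← (hf.pow_left m).eq, Module.End.mul_apply, ← hv,
      pow_succ, Module.End.mul_apply]

/-- A single Jordan block of size one less than the order. -/
theorem single_block [FiniteDimensional K V] {X : End K V} {n r : ℕ} (hr : (X - 1) ^ r = 0)
    (hr1 : (X - 1) ^ (r - 1) ≠ 0) (hr2 : 2 ≤ r) (hrP : r < p ^ n)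
    (hcent : ∀ f : End K V, Commute X f → ∃ (c : K) (φ : End K V), f = c • 1 + trP X (p ^ n) φ) :
    finrank K V = r ∧ r + 1 = p ^ n := by
  set J := X - 1 with hJ
  haveI : Nontrivial V := by
    by_contra hV
    rw [not_nontrivial_iff_subsingleton] at hV
    exact hr1 (LinearMap.ext fun _ => Subsingleton.elim _ _)
  -- elements of the commutant
  have hsplit : ∀ f : End K V, Commute J f → ∃ c : K, IsNilpotent (f - c • 1) ∧
      ∀ w, (f - c • 1) w ∈ LinearMap.range (J ^ (p ^ n - r)) := by
    intro f hf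
    obtain ⟨c, φ, e⟩ := hcent f (by rw [show X = J + 1 by rw [hJ, sub_add_cancel]]; exact hf.add_left (Commute.one_left f))
    have hN : ∀ w, (f - c • 1) w ∈ LinearMap.range (J ^ (p ^ n - r)) := fun w => by
      rw [e, add_sub_cancel_left]; exact trP_range hr hrP.le φ w
    refine ⟨c, ⟨r, LinearMap.ext fun w => ?_⟩, hN⟩
    obtain ⟨u, hu⟩ := commuting_range (hf.sub_right ((Commute.one_right J).smul_right c))
      (fun w => by simpa using range_pow_le (show 1 ≤ p ^ n - r by omega) (hN w)) r w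
    rw [← hu, hr, LinearMap.zero_apply, LinearMap.zero_apply]
  obtain ⟨v, hv⟩ : ∃ v, (J ^ (r - 1)) v ≠ 0 := by
    by_contra hc
    push Not at hc
    exact hr1 (LinearMap.ext hc)
  obtain ⟨lam, hlam⟩ : ∃ lam : Module.Dual K V, lam ((J ^ (r - 1)) v) ≠ 0 := by
    by_contra hc
    push Not at hc
    exact hv ((Module.forall_dual_apply_eq_zero_iff K _).mp hc)
  -- the projection onto the cyclic subspace of `v`
  set π : End K V := ∑ i ∈ Finset.range r, (lam ∘ₗ J ^ (r - 1 - i)).smulRight ((J ^ i) v) with hπdef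
  have hπa : ∀ w, π w = ∑ i ∈ Finset.range r, lam ((J ^ (r - 1 - i)) w) • (J ^ i) v := fun w => by
    simp [hπdef, LinearMap.sum_apply]
  have hπJ : Commute J π := by
    refine LinearMap.ext fun w => ?_
    obtain ⟨r', rfl⟩ : ∃ r', r = r' + 1 := ⟨r - 1, by omega⟩
    rw [Module.End.mul_apply, Module.End.mul_apply, hπa, hπa, map_sum, Finset.sum_range_succ,
      Finset.sum_range_succ' (fun i => lam ((J ^ (r' + 1 - 1 - i)) (J w)) • (J ^ i) v)]
    congr 1
    · refine Finset.sum_congr rfl fun i hi => ?_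
      have hi := Finset.mem_range.mp hi
      rw [map_smul, ← Module.End.mul_apply, ← Module.End.mul_apply, ← pow_succ', ← pow_succ,
        show r' + 1 - 1 - (i + 1) + 1 = r' + 1 - 1 - i by omega]
    · rw [map_smul, ← Module.End.mul_apply, ← pow_succ', hr, LinearMap.zero_apply, smul_zero,
        ← Module.End.mul_apply, ← pow_succ, show r' + 1 - 1 - 0 + 1 = r' + 1 by omega, hr, LinearMap.zero_apply,
        map_zero, zero_smul]
  have hlast : (J ^ (r - 1)) (π v) = lam ((J ^ (r - 1)) v) • (J ^ (r - 1)) v := by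
    rw [hπa, map_sum, Finset.sum_eq_single 0]
    · rw [map_smul, pow_zero, Module.End.one_apply, Nat.sub_zero]
    · intro i _ hi
      rw [map_smul, ← Module.End.mul_apply, ← pow_add, pow_eq_zero_of_le (show r ≤ r - 1 + i by omega) hr,
        LinearMap.zero_apply, smul_zero]
    · intro h; exact absurd (Finset.mem_range.mpr (by omega)) h
  obtain ⟨c, hnil, hcN⟩ := hsplit π hπJ
  have hc0 : c ≠ 0 := by
    rintro rfl
    obtain ⟨u, hu⟩ := hcN v
    rw [zero_smul, sub_zero] at hu
    refine smul_ne_zero hlam hv ?_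
    rw [← hlast, ← hu, ← Module.End.mul_apply, ← pow_add, pow_eq_zero_of_le (by omega) hr, LinearMap.zero_apply]
  have hunit : IsUnit π := by
    have hc : IsUnit (c • 1 : End K V) := by
      refine ⟨⟨c • 1, c⁻¹ • 1, ?_, ?_⟩, rfl⟩ <;> simp [smul_smul, hc0]
    simpa using IsNilpotent.isUnit_add_right_of_commute hnil hc ((Commute.one_right _).smul_right c)
  have htop : (⊤ : Submodule K V) ≤ Submodule.span K (Set.range fun i : Fin r => (J ^ (i : ℕ)) v) := by
    intro w _
    obtain ⟨u, rfl⟩ := ((Module.End.isUnit_iff π).mp hunit).2 w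
    rw [hπa]
    refine Submodule.sum_mem _ fun i hi => Submodule.smul_mem _ _ (Submodule.subset_span ?_)
    exact ⟨⟨i, Finset.mem_range.mp hi⟩, rfl⟩
  have hle : finrank K V ≤ r := by
    have h := finrank_range_le_card (R := K) (fun i : Fin r => (J ^ (i : ℕ)) v)
    rw [Set.finrank, top_le_iff.mp htop, finrank_top, Fintype.card_fin] at h
    exact h
  have hge : r ≤ finrank K V := by
    by_contra hlt
    have h := LinearMap.aeval_self_charpoly J
    rw [(show IsNilpotent J from ⟨r, hr⟩).charpoly_eq_X_pow_finrank, map_pow, Polynomial.aeval_X] at h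
    exact hr1 (pow_eq_zero_of_le (by omega) h)
  refine ⟨le_antisymm hle hge, ?_⟩
  by_contra hne
  obtain ⟨d, hnil, hdN⟩ := hsplit J (Commute.refl J)
  have hd : d = 0 := by
    by_contra hd
    have h1 : IsNilpotent ((d • 1 : End K V)) := by
      simpa using Commute.isNilpotent_sub ((Commute.refl J).sub_right ((Commute.one_right J).smul_right d)) ⟨r, hr⟩ hnil
    obtain ⟨m, hm⟩ := h1
    rw [smul_pow, one_pow] at hm
    exact (smul_ne_zero (pow_ne_zero m hd) one_ne_zero) hm
  subst hd
  have hJ2 : ∀ w, J w ∈ LinearMap.range (J ^ 2) := fun w => by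
    simpa using range_pow_le (show 2 ≤ p ^ n - r by omega) (hdN w)
  have hall : ∀ m, ∀ w, J w ∈ LinearMap.range (J ^ (m + 1)) := by
    intro m
    induction m with
    | zero => intro w; exact ⟨w, by simp⟩
    | succ m ih =>
      intro w
      obtain ⟨u, hu⟩ := ih w
      obtain ⟨z, hz⟩ := hJ2 u
      refine ⟨z, ?_⟩
      rw [← hu, pow_succ (n := m), Module.End.mul_apply, ← hz, ← Module.End.mul_apply, ← pow_add]
  refine hr1 (pow_eq_zero_of_le (show 1 ≤ r - 1 by omega) ?_)
  rw [pow_one]
  refine LinearMap.ext fun w => ?_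
  obtain ⟨u, hu⟩ := hall (r - 1) w
  rw [← hu, Nat.sub_add_cancel (by omega : 1 ≤ r), hr, LinearMap.zero_apply, LinearMap.zero_apply]

end Cfsg.Agent.PLocal.TheoremB
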