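import Cfsg.Agent.Lib.PLocal.TheoremB.Main

/-!
A cyclic `p`-group without fixed points on an irreducible `q`-group modulo the centre.
-/

set_option linter.all false
set_option autoImplicit false

namespace Cfsg.Agent.PLocal.TheoremB.Critical

open Module (End finrank)
open scoped Classical

universe u v w

variable {K : Type w} [Field K] [IsAlgClosed K]

section avg

variable {H : Type u} [Group H] [Fintype H] {V : Type v} [AddCommGroup V] [Module K V] [FiniteDimensional K V]
  [Nontrivial V] {σ : H →* End K V}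

/-- The average of an endomorphism over an irreducible group. -/
theorem exists_avg (hirr : QIrred σ ⊤) (f : End K V) :
    ∃ c : K, ∑ h : H, σ h * f * σ h⁻¹ = c • 1 ∧ c * (finrank K V : K) = (Nat.card H : K) * LinearMap.trace K V f := by
  obtain ⟨c, hc⟩ := schur hirr (∑ h : H, σ h * f * σ h⁻¹) fun k _ => by
    show (∑ h : H, σ h * f * σ h⁻¹) * σ k = σ k * ∑ h : H, σ h * f * σ h⁻¹
    rw [Finset.sum_mul, Finset.mul_sum]
    refine (Fintype.sum_equiv (Equiv.mulLeft k) _ _ fun h => ?_).symm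
    show σ k * (σ h * f * σ h⁻¹) = σ (k * h) * f * σ (k * h)⁻¹ * σ k
    rw [mul_inv_rev, map_mul, map_mul, mul_assoc (σ k * σ h * f), mul_assoc (σ h⁻¹), ← map_mul σ k⁻¹, inv_mul_cancel,
      map_one, mul_one]
    simp only [mul_assoc]
  refine ⟨c, hc, ?_⟩
  have h := congrArg (LinearMap.trace K V) hc
  rw [map_sum, map_smul, LinearMap.trace_one, smul_eq_mul] at h
  rw [← h, Finset.sum_congr rfl (fun g _ => ?_), Finset.sum_const, Finset.card_univ, ← Nat.card_eq_fintype_card,
    nsmul_eq_mul]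
  rw [LinearMap.trace_mul_comm, ← mul_assoc, ← map_mul, inv_mul_cancel, map_one, one_mul]

/-- The dimension is invertible. -/
theorem finrank_cast_ne_zero (hirr : QIrred σ ⊤) (hH : (Nat.card H : K) ≠ 0) : (finrank K V : K) ≠ 0 := by
  intro h0
  obtain ⟨v, hv⟩ := exists_ne (0 : V)
  refine hv ((Module.forall_dual_apply_eq_zero_iff K v).mp fun φ => ?_)
  obtain ⟨c, -, hc⟩ := exists_avg hirr (φ.smulRight v)
  rw [h0, mul_zero, LinearMap.trace_smulRight] at hc
  exact (mul_eq_zero.mp hc.symm).resolve_left hH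

/-- The expansion of an endomorphism along an irreducible group. -/
theorem expansion (hirr : QIrred σ ⊤) (f : End K V) :
    (Nat.card H : K) • f = (finrank K V : K) • ∑ h : H, LinearMap.trace K V (σ h⁻¹ * f) • σ h := by
  have hrank : ∀ (φ : Module.Dual K V) (u : V), (Nat.card H : K) • φ.smulRight u =
      (finrank K V : K) • ∑ h : H, LinearMap.trace K V (σ h⁻¹ * φ.smulRight u) • σ h := by
    intro φ u
    refine LinearMap.ext fun w => ?_
    obtain ⟨c, hc, hcd⟩ := exists_avg hirr (φ.smulRight w)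
    have hu := LinearMap.congr_fun hc u
    rw [LinearMap.sum_apply, LinearMap.smul_apply, Module.End.one_apply] at hu
    rw [LinearMap.trace_smulRight] at hcd
    have e : ∀ h : H, LinearMap.trace K V (σ h⁻¹ * φ.smulRight u) = φ (σ h⁻¹ u) := fun h => by
      rw [show σ h⁻¹ * φ.smulRight u = φ.smulRight (σ h⁻¹ u) from LinearMap.ext fun z => by simp,
        LinearMap.trace_smulRight]
    rw [LinearMap.smul_apply, LinearMap.smul_apply, LinearMap.sum_apply]
    simp only [e, LinearMap.smul_apply]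
    rw [show ∑ h : H, φ (σ h⁻¹ u) • σ h w = c • u by rw [← hu]; exact Finset.sum_congr rfl fun h _ => by simp,
      LinearMap.smulRight_apply, smul_smul, smul_smul, mul_comm _ c, hcd]
  let b := Module.finBasis K V
  have hf : f = ∑ i, (b.coord i).smulRight (f (b i)) := b.ext fun j => by
    simp [LinearMap.sum_apply, Finsupp.single_apply]
  rw [hf, Finset.smul_sum, Finset.sum_congr rfl (fun i _ => hrank (b.coord i) (f (b i))), ← Finset.smul_sum,
    Finset.sum_comm]
  refine congrArg _ (Finset.sum_congr rfl fun h _ => ?_)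
  rw [← Finset.sum_smul, ← map_sum, ← Finset.mul_sum]

end avg

theorem finrank_iSup_fin_le {V : Type v} [AddCommGroup V] [Module K V] [FiniteDimensional K V] :
    ∀ {n : ℕ} (f : Fin n → Submodule K V), finrank K ↥(⨆ i, f i) ≤ ∑ i, finrank K (f i) := by
  intro n f
  rw [← Finset.sup_univ_eq_iSup]
  induction (Finset.univ : Finset (Fin n)) using Finset.induction with
  | empty => simp
  | insert a s ha ih =>
    rw [Finset.sup_insert, Finset.sum_insert ha]
    exact (Submodule.finrank_add_le_finrank_add_finrank _ _).trans (by omega)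

variable {q : ℕ} [hq : Fact q.Prime]

/-- The dimension of an irreducible module of a `q`-group is a power of `q`. -/
theorem finrank_eq_pow (hqK : (q : K) ≠ 0) :
    ∀ (N : ℕ) (H : Type u) [Group H] [Finite H] (V : Type v) [AddCommGroup V] [Module K V] [FiniteDimensional K V]
      [Nontrivial V] (σ : H →* End K V), Nat.card H ≤ N → IsPGroup q H → QIrred σ ⊤ → ∃ m, finrank K V = q ^ m := by
  intro N
  induction N using Nat.strong_induction_on with
  | _ N IH =>
  intro H _ _ V _ _ _ _ σ hN hH hirr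
  obtain ⟨k, hk⟩ := hH.exists_card_eq
  rcases Nat.eq_zero_or_pos k with rfl | hk0
  · haveI : Subsingleton H := (Nat.card_eq_one_iff_unique.mp (by rw [hk, pow_zero])).1
    obtain ⟨v, hv⟩ := exists_ne (0 : V)
    rcases hirr (Submodule.span K {v}) fun g _ w hw => by
        rw [Subsingleton.elim g 1, map_one]; exact hw with e | e
    · exact absurd (Submodule.span_singleton_eq_bot.mp e) hv
    · refine ⟨0, ?_⟩
      rw [pow_zero, ← finrank_top, ← e, finrank_span_singleton hv]
  -- a subgroup of index `q`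
  obtain ⟨M, hM⟩ := Sylow.exists_subgroup_card_pow_prime q (n := k - 1) (by rw [hk]; exact pow_dvd_pow q (by omega))
  have hMidx : M.index = q := by
    have h1 := M.card_mul_index
    rw [hM, hk, show q ^ k = q ^ (k - 1) * q by rw [← pow_succ]; congr 1; omega] at h1
    exact Nat.eq_of_mul_eq_mul_left (Nat.pow_pos hq.out.pos) h1
  haveI : M.Normal := Subgroup.normal_of_index_eq_minFac_card (by
    rw [hMidx, hk, Nat.pow_minFac (by omega), hq.out.minFac_eq])
  have hMlt : Nat.card M < Nat.card H := by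
    rw [hM, hk]; exact Nat.pow_lt_pow_right hq.out.one_lt (by omega)
  by_cases hMirr : QIrred (σ.comp M.subtype) ⊤
  · exact IH _ (hMlt.trans_le hN) M V (σ.comp M.subtype) le_rfl (hH.to_subgroup M) hMirr
  simp only [QIrred, not_forall, not_or] at hMirr
  obtain ⟨W, hW, hW0, hW1⟩ := hMirr
  haveI := Fintype.ofFinite M
  haveI := Fintype.ofFinite H
  -- an endomorphism commuting with `M`, not a scalar
  obtain ⟨π₀, hπ₀⟩ := W.subtype.exists_leftInverse_of_injective W.ker_subtype
  set e₀ : End K V := W.subtype ∘ₗ π₀ with he₀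
  set e : End K V := ∑ m : M, σ (m : H) * e₀ * σ (m : H)⁻¹ with he
  have hMne : (Nat.card M : K) ≠ 0 := by rw [hM, Nat.cast_pow]; exact pow_ne_zero _ hqK
  have heM : ∀ k : M, Commute e (σ (k : H)) := fun k => by
    show e * σ (k : H) = σ (k : H) * e
    rw [he, Finset.sum_mul, Finset.mul_sum]
    refine (Fintype.sum_equiv (Equiv.mulLeft k) _ _ fun m => ?_).symm
    show σ (k : H) * (σ (m : H) * e₀ * σ (m : H)⁻¹) = σ ((k * m : M) : H) * e₀ * σ ((k * m : M) : H)⁻¹ * σ (k : H)
    rw [Subgroup.coe_mul, mul_inv_rev, map_mul, map_mul, mul_assoc (σ (k : H) * σ (m : H) * e₀), mul_assoc (σ (m : H)⁻¹),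
      ← map_mul σ (k : H)⁻¹, inv_mul_cancel, map_one, mul_one]
    simp only [mul_assoc]
  have hens : ∀ c : K, e ≠ c • 1 := by
    intro c hc
    have heW : ∀ w ∈ W, e w = (Nat.card M : K) • w := by
      intro w hw
      rw [he, LinearMap.sum_apply, Finset.sum_congr rfl (g := fun _ => w) fun m _ => ?_, Finset.sum_const,
        Finset.card_univ, ← Nat.card_eq_fintype_card, Nat.cast_smul_eq_nsmul]
      have h1 : σ (m : H)⁻¹ w ∈ W := hW m⁻¹ trivial w hw
      rw [Module.End.mul_apply, Module.End.mul_apply, he₀, LinearMap.comp_apply,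
        show π₀ (σ (m : H)⁻¹ w) = ⟨_, h1⟩ from LinearMap.congr_fun hπ₀ ⟨_, h1⟩, Submodule.subtype_apply]
      exact apply_apply_inv σ (m : H) w
    have hrange : ∀ v, e v ∈ W := fun v => by
      rw [he, LinearMap.sum_apply]
      exact W.sum_mem fun m _ => hW m trivial _ (π₀ _).2
    obtain ⟨w, hw, hw0⟩ := W.exists_mem_ne_zero_of_ne_bot hW0
    have h1 := heW w hw
    rw [hc, LinearMap.smul_apply, Module.End.one_apply] at h1
    have hc0 : c ≠ 0 := by
      rintro rfl
      rw [zero_smul] at h1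
      exact hMne ((smul_eq_zero.mp h1.symm).resolve_right hw0)
    refine hW1 (eq_top_iff.mpr fun v _ => ?_)
    have h2 := hrange v
    rw [hc, LinearMap.smul_apply, Module.End.one_apply] at h2
    exact (W.smul_mem_iff hc0).mp h2
  obtain ⟨x, hx⟩ : ∃ x : H, x ∉ M := by
    by_contra h
    push Not at h
    have : M = ⊤ := eq_top_iff.mpr fun g _ => h g
    rw [this, Subgroup.index_top] at hMidx
    exact hq.out.ne_one hMidx.symm
  have hxq : x ^ q ∈ M := hMidx ▸ Subgroup.pow_index_mem M x
  -- `H` is generated by `M` and `x`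
  have hdec : ∀ g : H, ∃ i : ℕ, ∃ m ∈ M, g = m * x ^ i := by
    intro g
    haveI : Fact q.Prime := hq
    have hcq : Nat.card (H ⧸ M) = q := by rw [← Subgroup.index_eq_card]; exact hMidx
    have hx1 : (x : H ⧸ M) ≠ 1 := fun h => hx ((QuotientGroup.eq_one_iff x).mp h)
    obtain ⟨i, hi⟩ := mem_powers_of_prime_card (g' := (g : H ⧸ M)) hcq hx1
    refine ⟨i, g * (x ^ i)⁻¹, ?_, by group⟩
    have hi' : ((x ^ i : H) : H ⧸ M) = (g : H ⧸ M) := hi
    rw [← QuotientGroup.eq_one_iff, QuotientGroup.mk_mul, QuotientGroup.mk_inv, hi', mul_inv_cancel]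
  -- a root of unity
  haveI : NeZero ((q : ℕ) : K) := ⟨hqK⟩
  obtain ⟨ω, hω⟩ := HasEnoughRootsOfUnity.exists_primitiveRoot K q
  set conj : ℕ → End K V := fun i => σ (x ^ i) * e * σ (x ^ i)⁻¹ with hconj
  have hconjq : conj q = conj 0 := by
    show σ (x ^ q) * e * σ (x ^ q)⁻¹ = σ (x ^ 0) * e * σ (x ^ 0)⁻¹
    rw [← (heM ⟨x ^ q, hxq⟩).eq, mul_assoc, ← map_mul, mul_inv_cancel, pow_zero]
    simp
  set c : ℕ → End K V := fun j => ∑ i ∈ Finset.range q, (ω ^ j) ^ i • conj i with hc
  have hshift : ∀ j, (ω ^ j) • (σ x * c j) = c j * σ x := by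
    intro j
    have hstep : ∀ i, σ x * conj i = conj (i + 1) * σ x := fun i => by
      show σ x * (σ (x ^ i) * e * σ (x ^ i)⁻¹) = σ (x ^ (i + 1)) * e * σ (x ^ (i + 1))⁻¹ * σ x
      rw [pow_succ', mul_inv_rev, map_mul, map_mul, mul_assoc (σ x * σ (x ^ i) * e), mul_assoc (σ (x ^ i)⁻¹),
        ← map_mul σ x⁻¹, inv_mul_cancel, map_one, mul_one]
      simp only [mul_assoc]
    rw [hc]
    simp only [Finset.mul_sum, Finset.sum_mul, Finset.smul_sum, mul_smul_comm, smul_mul_assoc, smul_smul, hstep, ← pow_succ']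
    rw [← sub_eq_zero, ← Finset.sum_sub_distrib, Finset.sum_range_sub (fun i => (ω ^ j) ^ i • (conj i * σ x)), hconjq,
      ← pow_mul, mul_comm j q, pow_mul, hω.pow_eq_one, one_pow, pow_zero, sub_self]
  have hcM : ∀ j, ∀ m : M, Commute (c j) (σ (m : H)) := fun j m => by
    refine Commute.sum_left _ _ _ fun i _ => Commute.smul_left ?_ _
    show σ (x ^ i) * e * σ (x ^ i)⁻¹ * σ (m : H) = σ (m : H) * (σ (x ^ i) * e * σ (x ^ i)⁻¹)
    have hm' : (x ^ i)⁻¹ * (m : H) * x ^ i ∈ M := by
      have := (inferInstance : M.Normal).conj_mem _ m.2 (x ^ i)⁻¹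
      rwa [inv_inv] at this
    have h1 := (heM ⟨_, hm'⟩).eq
    calc σ (x ^ i) * e * σ (x ^ i)⁻¹ * σ (m : H)
        = σ (x ^ i) * (e * σ ((x ^ i)⁻¹ * (m : H) * x ^ i)) * σ (x ^ i)⁻¹ := by
          simp only [mul_assoc, ← map_mul]; congr 2; group
      _ = σ (m : H) * (σ (x ^ i) * e * σ (x ^ i)⁻¹) := by
          rw [h1]
          simp only [← mul_assoc, ← map_mul]
          congr 2
          rw [mul_assoc (x ^ i), ← mul_assoc (x ^ i)]; group
  -- a nonscalar one
  obtain ⟨j, hjq, hj0, hcj⟩ : ∃ j, j < q ∧ 0 < j ∧ c j ≠ 0 := by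
    by_contra hall
    push Not at hall
    have hsum : ∑ j ∈ Finset.range q, c j = (q : K) • e := by
      simp only [hc]
      rw [Finset.sum_comm, Finset.sum_eq_single 0]
      · simp [hconj, Nat.cast_smul_eq_nsmul]
      · intro i hi hi0
        rw [← Finset.sum_smul]
        have : ∑ j ∈ Finset.range q, (ω ^ j) ^ i = 0 := by
          rw [Finset.sum_congr rfl (g := fun j => (ω ^ i) ^ j) fun j _ => by rw [← pow_mul, mul_comm, pow_mul]]
          exact (hω.pow_of_coprime i ((Nat.coprime_of_lt_prime hi0 (Finset.mem_range.mp hi) hq.out).symm)).geom_sum_eq_zero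
            hq.out.one_lt
        rw [this, zero_smul]
      · exact fun h => absurd (Finset.mem_range.mpr hq.out.pos) h
    rw [Finset.sum_eq_single 0 (fun j hj hj0 => hall j (Finset.mem_range.mp hj) (Nat.pos_of_ne_zero hj0))
      (fun h => absurd (Finset.mem_range.mpr hq.out.pos) h)] at hsum
    obtain ⟨s, hs⟩ := schur hirr (c 0) fun g _ => by
      obtain ⟨i, m, hm, rfl⟩ := hdec g
      have hx0 : Commute (c 0) (σ x) := by
        have := hshift 0
        rw [pow_zero, one_smul] at this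
        exact this.symm
      rw [map_mul, map_pow]
      exact (hcM 0 ⟨m, hm⟩).mul_right (hx0.pow_right i)
    rw [hs] at hsum
    exact hens ((q : K)⁻¹ * s) (by rw [mul_smul, hsum, smul_smul, inv_mul_cancel₀ hqK, one_smul])
  set θ := ω ^ j with hθ
  have hθ : IsPrimitiveRoot θ q := hω.pow_of_coprime j ((Nat.coprime_of_lt_prime hj0.ne' hjq hq.out).symm)
  have hθ0 : θ ≠ 0 := hθ.ne_zero hq.out.ne_zero
  set C := c j with hC
  have hxC : ∀ v, θ • σ x (C v) = C (σ x v) := fun v => LinearMap.congr_fun (hshift j) v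
  have hCx : ∀ (i : ℕ) (v : V), C v = 0 → C (σ (x ^ i) v) = 0 := by
    intro i v hv
    induction i with
    | zero => simpa using hv
    | succ i ih => rw [pow_succ', map_mul, Module.End.mul_apply, ← hxC, ih, map_zero, smul_zero]
  have hker : LinearMap.ker C = ⊥ := by
    refine (hirr (LinearMap.ker C) fun g _ v hv => ?_).resolve_right fun h => hcj (LinearMap.ker_eq_top.mp h)
    rw [LinearMap.mem_ker] at hv ⊢
    obtain ⟨i, m, hm, rfl⟩ := hdec g
    rw [map_mul, Module.End.mul_apply, ← Module.End.mul_apply, (hcM j ⟨m, hm⟩).eq, Module.End.mul_apply]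
    rw [hCx i v hv, map_zero]
  obtain ⟨lam, hlam⟩ := Module.End.exists_eigenvalue C
  have hlam0 : lam ≠ 0 := by
    rintro rfl
    obtain ⟨v, hv, hv0⟩ := hlam.exists_hasEigenvector
    rw [Module.End.mem_eigenspace_iff, zero_smul] at hv
    exact hv0 ((Submodule.eq_bot_iff _).mp hker v (LinearMap.mem_ker.mpr hv))
  set U : ℕ → Submodule K V := fun i => C.eigenspace (θ ^ i * lam) with hU
  have hUx : ∀ i, ∀ v ∈ U i, σ x v ∈ U (i + 1) := fun i v hv => by
    rw [hU, Module.End.mem_eigenspace_iff] at hv ⊢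
    rw [← hxC, hv, map_smul, smul_smul, pow_succ', mul_assoc]
  have hUq : ∀ i, U (i + q) = U i := fun i => by
    simp only [hU, pow_add, hθ.pow_eq_one, mul_one]
  have hUxi : ∀ i k, ∀ v ∈ U i, σ (x ^ k) v ∈ U (i + k) := by
    intro i k v hv
    induction k with
    | zero => simpa using hv
    | succ k ih => rw [pow_succ', map_mul, Module.End.mul_apply, ← add_assoc]; exact hUx _ _ ih
  have hUM : ∀ i, ∀ m : M, ∀ v ∈ U i, σ (m : H) v ∈ U i := fun i m v hv => by
    rw [hU, Module.End.mem_eigenspace_iff] at hv ⊢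
    rw [← Module.End.mul_apply, (hcM j m).eq, Module.End.mul_apply, hv, map_smul]
  have hUmod : ∀ i, U i = U (i % q) := fun i => by
    conv_lhs => rw [← Nat.mod_add_div i q]
    simp only [hU, pow_add, pow_mul, hθ.pow_eq_one, one_pow, mul_one]
  have hU0 : U 0 ≠ ⊥ := by
    simp only [hU, pow_zero, one_mul]
    exact hlam
  -- the sum of an orbit of subspaces
  have horbit : ∀ W' : Submodule K V, W' ≠ ⊥ → W' ≤ U 0 → (∀ m : M, ∀ v ∈ W', σ (m : H) v ∈ W') →
      ⨆ i : Fin q, W'.map (σ (x ^ (i : ℕ))) = ⊤ := by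
    intro W' hW'0 hle hW'M
    refine (hirr _ fun g _ v hv => ?_).resolve_left fun h => hW'0 (le_bot_iff.mp (le_of_le_of_eq ?_ h))
    · obtain ⟨i, m, hm, rfl⟩ := hdec g
      induction hv using Submodule.iSup_induction' with
      | mem k v hv =>
        obtain ⟨w, hw, rfl⟩ := hv
        rw [← Module.End.mul_apply, ← map_mul, mul_assoc, ← pow_add]
        have hdiv : x ^ (i + (k : ℕ)) = x ^ ((i + (k : ℕ)) % q) * (x ^ q) ^ ((i + (k : ℕ)) / q) := by
          rw [← pow_mul, ← pow_add, Nat.mod_add_div]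
        set r := (i + (k : ℕ)) % q
        set t := (i + (k : ℕ)) / q
        have hmem : (x ^ r)⁻¹ * m * x ^ r * (x ^ q) ^ t ∈ M := by
          refine mul_mem ?_ (pow_mem hxq t)
          have := (inferInstance : M.Normal).conj_mem _ hm (x ^ r)⁻¹
          rwa [inv_inv] at this
        rw [hdiv, show m * (x ^ r * (x ^ q) ^ t) = x ^ r * ((x ^ r)⁻¹ * m * x ^ r * (x ^ q) ^ t) by group, map_mul,
          Module.End.mul_apply]
        exact Submodule.mem_iSup_of_mem (⟨r, Nat.mod_lt _ hq.out.pos⟩ : Fin q)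
          ⟨_, hW'M ⟨_, hmem⟩ w hw, rfl⟩
      | zero => simp
      | add a b _ _ ha hb => rw [map_add]; exact Submodule.add_mem _ ha hb
    · refine le_trans ?_ (le_iSup _ (⟨0, hq.out.pos⟩ : Fin q))
      intro v hv
      exact ⟨v, hv, by simp⟩
  have hindep : iSupIndep fun i : Fin q => U i :=
    (Module.End.eigenspaces_iSupIndep C).comp fun a b hab => by
      exact Fin.ext (hθ.pow_inj a.2 b.2 (mul_right_cancel₀ hlam0 hab))
  have htop : ⨆ i : Fin q, U i = ⊤ := by
    refine top_le_iff.mp ((horbit (U 0) hU0 le_rfl (hUM 0)).ge.trans (iSup_mono fun i => ?_))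
    rintro _ ⟨v, hv, rfl⟩
    simpa using hUxi 0 i v hv
  have hint := DirectSum.isInternal_submodule_of_iSupIndep_of_iSup_eq_top hindep htop
  have hfin : finrank K V = ∑ i : Fin q, finrank K (U i) := by
    rw [← Module.finrank_directSum]
    exact (LinearEquiv.ofBijective (DirectSum.coeLinearMap fun i : Fin q => U i) hint).finrank_eq.symm
  have hinjx : ∀ k, Function.Injective (σ (x ^ k)) := fun k => fun a b h => by
    have := congrArg (σ (x ^ k)⁻¹) h
    rwa [apply_inv_apply, apply_inv_apply] at this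
  have hdim : ∀ i : ℕ, i ≤ q → finrank K (U i) = finrank K (U 0) := by
    intro i hi
    refine le_antisymm ?_ ?_
    · refine LinearMap.finrank_le_finrank_of_injective (f := (σ (x ^ (q - i))).restrict (q := U 0) fun v hv => ?_) ?_
      · have h' := hUxi i (q - i) v hv
        rwa [show i + (q - i) = 0 + q by omega, hUq] at h'
      · exact fun a b h => Subtype.ext (hinjx _ (congrArg Subtype.val h))
    · refine LinearMap.finrank_le_finrank_of_injective (f := (σ (x ^ i)).restrict (q := U i) fun v hv => ?_) ?_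
      · simpa using hUxi 0 i v hv
      · exact fun a b h => Subtype.ext (hinjx _ (congrArg Subtype.val h))
  have hd : finrank K V = q * finrank K (U 0) := by
    rw [hfin, Finset.sum_congr rfl fun (i : Fin q) _ => hdim i i.2.le, Finset.sum_const, Finset.card_univ, Fintype.card_fin,
      smul_eq_mul]
  haveI : Nontrivial (U 0) := Submodule.nontrivial_iff_ne_bot.mpr hU0
  have hUM0 : ∀ g ∈ M, ∀ v ∈ U 0, σ g v ∈ U 0 := fun g hg => hUM 0 ⟨g, hg⟩
  obtain ⟨m, hm⟩ := IH _ (hMlt.trans_le hN) M (U 0) (subAct σ M (U 0) hUM0) le_rfl (hH.to_subgroup M) (by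
    intro W' hW'
    by_contra hcon
    rw [not_or] at hcon
    have h1 := horbit (W'.map (U 0).subtype) (fun h => hcon.1 (Submodule.map_injective_of_injective
      (U 0).injective_subtype (h.trans (Submodule.map_bot _).symm))) (Submodule.map_subtype_le _ _) fun g v hv => by
      obtain ⟨w, hw, rfl⟩ := hv
      exact ⟨subAct σ M (U 0) hUM0 g w, hW' g trivial w hw, rfl⟩
    have h2 : finrank K V ≤ q * finrank K W' := by
      rw [← finrank_top K V, ← h1]
      refine (finrank_iSup_fin_le _).trans ?_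
      calc ∑ i : Fin q, finrank K ↥((W'.map (U 0).subtype).map (σ (x ^ (i : ℕ))))
          ≤ ∑ _i : Fin q, finrank K W' := Finset.sum_le_sum fun i _ =>
            (Submodule.finrank_map_le _ _).trans (Submodule.finrank_map_le _ _)
        _ = q * finrank K W' := by simp
    have h3 := Submodule.finrank_lt hcon.2
    have := Nat.mul_lt_mul_of_pos_left h3 hq.out.pos
    omega)
  exact ⟨m + 1, by rw [hd, hm, pow_succ']⟩

section critical

variable {G : Type u} [Group G] [Finite G] {V : Type v} [AddCommGroup V] [Module K V] [FiniteDimensional K V]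
  [Nontrivial V] {ρ : G →* End K V} {Q : Subgroup G} {p : ℕ} [hp : Fact p.Prime] [CharP K p] {x : G} {n : ℕ}

/-- A faithful group irreducible on `Q` commutes with `Q` only through scalars. -/
theorem qirred_top (hirr : QIrred ρ Q) : QIrred (ρ.comp Q.subtype) ⊤ :=
  fun W hW => hirr W fun g hg => hW ⟨g, hg⟩ trivial

/-- The commutant of `x` consists of scalars and traces. -/
theorem commutant_eq (hQ : IsPGroup q Q) (hpq : p ≠ q) (hirr : QIrred ρ Q) (hxP : x ^ p ^ n = 1)
    (hxQ : Normalizes x Q)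
    (hreg : ∀ i : ℕ, i ≠ 0 → i < p ^ n → ∀ g ∈ Q, g ∉ scalars ρ → x ^ i * g * (x ^ i)⁻¹ ≠ g)
    (f : End K V) (hf : Commute (ρ x) f) :
    ∃ (c : K) (φ : End K V), f = c • 1 + trP (ρ x) (p ^ n) φ := by
  haveI := Fintype.ofFinite Q
  set S := scalars ρ with hS
  have hirr' := qirred_top hirr
  have hcard : (Nat.card Q : K) ≠ 0 := by
    obtain ⟨j, hj⟩ := hQ.exists_card_eq
    rw [hj, Nat.cast_pow]
    refine pow_ne_zero j ?_
    rw [Ne, CharP.cast_eq_zero_iff K p, Nat.prime_dvd_prime_iff_eq hp.out hq.out]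
    exact hpq
  set a : Q → K := fun g => LinearMap.trace K V (ρ ((g : G)⁻¹) * f) with ha
  -- the permutation
  let σ : Equiv.Perm Q := Equiv.ofBijective (fun g : Q => (⟨x * g * x⁻¹, hxQ _ g.2⟩ : Q))
    (Finite.injective_iff_bijective.mp fun a b h => by
      simpa using congrArg Subtype.val h)
  have hσ : ∀ (i : ℕ) (g : Q), (((σ ^ i) g : Q) : G) = x ^ i * g * (x ^ i)⁻¹ := by
    intro i
    induction i with
    | zero => simp
    | succ i ih =>
      intro g
      rw [pow_succ', Equiv.Perm.mul_apply]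
      show x * ((σ ^ i) g : Q) * x⁻¹ = _
      rw [ih, pow_succ']; group
  have hσP : σ ^ p ^ n = 1 := Equiv.ext fun g => Subtype.ext (by rw [hσ, hxP]; simp)
  let rep : Q → Q := fun g => (Quotient.mk (Equiv.Perm.SameCycle.setoid σ) g).out
  have hrep : ∀ g, σ.SameCycle (rep g) g := fun g =>
    @Quotient.exact _ (Equiv.Perm.SameCycle.setoid σ) _ _ (Quotient.out_eq (Quotient.mk (Equiv.Perm.SameCycle.setoid σ) g))
  have hrep' : ∀ g (i : ℕ), rep ((σ ^ i) g) = rep g := fun g i => by
    refine congrArg Quotient.out (Quotient.sound ?_)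
    show σ.SameCycle ((σ ^ i) g) g
    exact (Equiv.Perm.sameCycle_pow_left (n := i)).mpr (Equiv.Perm.SameCycle.refl _ _)
  have haσ : ∀ (g : Q) (i : ℕ), a ((σ ^ i) g) = a g := by
    intro g i
    simp only [ha, hσ]
    rw [show (x ^ i * g * (x ^ i)⁻¹)⁻¹ = x ^ i * ((g : G)⁻¹ * (x ^ i)⁻¹) by group, map_mul ρ, mul_assoc,
      LinearMap.trace_mul_comm, map_mul ρ, mul_assoc, mul_assoc]
    congr 2
    have : f * ρ (x ^ i) = ρ (x ^ i) * f := by rw [map_pow]; exact (hf.pow_left i).symm.eq
    rw [this, ← mul_assoc, ← map_mul, inv_mul_cancel, map_one, one_mul]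
  set u : Q → K := fun g => if (g : G) ∈ S then 0 else if rep g = g then 1 else 0 with hu
  set ψ : End K V := ∑ g : Q, (u g * a g) • ρ (g : G) with hψ
  have hSσ : ∀ (g : Q) (i : ℕ), (((σ ^ i) g : Q) : G) ∈ S ↔ (g : G) ∈ S := by
    intro g i
    rw [hσ]
    refine ⟨fun h => ?_, fun h => (scalars_normal ρ).conj_mem _ h _⟩
    have := (scalars_normal ρ).conj_mem _ h (x ^ i)⁻¹
    rwa [show (x ^ i)⁻¹ * (x ^ i * g * (x ^ i)⁻¹) * (x ^ i)⁻¹⁻¹ = (g : G) by group] at this
  have htr : trP (ρ x) (p ^ n) ψ = ∑ g : Q, (if (g : G) ∈ S then 0 else a g) • ρ (g : G) := by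
    have hterm : ∀ i, ρ x ^ i * ψ * (ρ x ^ (p ^ n - 1)) ^ i =
        ∑ h : Q, (u ((σ ^ i)⁻¹ h) * a h) • ρ (h : G) := by
      intro i
      have hinv : (ρ x ^ (p ^ n - 1)) ^ i = ρ ((x ^ i)⁻¹) := by
        rw [← map_pow, ← map_pow]
        congr 1
        rw [← inv_pow]
        congr 1
        refine eq_inv_of_mul_eq_one_left ?_
        rw [← pow_succ, Nat.sub_add_cancel (Nat.one_le_pow _ _ hp.out.pos), hxP]
      rw [hψ, Finset.mul_sum, Finset.sum_mul]
      refine Fintype.sum_equiv (σ ^ i) _ _ fun g => ?_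
      rw [mul_smul_comm, smul_mul_assoc, hinv, ← map_pow, ← map_mul, ← map_mul, ← hσ, haσ,
        show (σ ^ i)⁻¹ ((σ ^ i) g) = g from (σ ^ i).symm_apply_apply g]
    rw [trP, Finset.sum_congr rfl (fun i _ => hterm i), Finset.sum_comm]
    refine Finset.sum_congr rfl fun h _ => ?_
    rw [← Finset.sum_smul, ← Finset.sum_mul]
    congr 1
    by_cases hhS : (h : G) ∈ S
    · rw [if_pos hhS, Finset.sum_eq_zero, zero_mul]
      intro i _
      simp only [hu]
      rw [if_pos]
      have := hSσ ((σ ^ i)⁻¹ h) i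
      rw [show (σ ^ i) ((σ ^ i)⁻¹ h) = h from (σ ^ i).apply_symm_apply h] at this
      exact this.mp hhS
    · rw [if_neg hhS]
      suffices hs : ∑ i ∈ Finset.range (p ^ n), u ((σ ^ i)⁻¹ h) = 1 by rw [hs, one_mul]
      obtain ⟨j, hj, hjh⟩ := (hrep h).exists_pow_eq'
      have hjP : j < p ^ n := hj.trans_le (Nat.le_of_dvd (Nat.pow_pos hp.out.pos) (orderOf_dvd_of_pow_eq_one hσP))
      have hrS : ((rep h : Q) : G) ∉ S := fun hm => hhS (by rw [← hjh]; exact (hSσ _ j).mpr hm)
      have hback : (σ ^ j)⁻¹ h = rep h := by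
        conv_lhs => rw [← hjh]
        exact (σ ^ j).symm_apply_apply _
      rw [Finset.sum_eq_single j]
      · simp only [hu]
        rw [hback, if_neg hrS, if_pos]
        have := hrep' (rep h) j
        rw [hjh] at this
        exact this.symm
      · intro i hi hij
        simp only [hu]
        set g := (σ ^ i)⁻¹ h with hg
        have hgh : (σ ^ i) g = h := (σ ^ i).apply_symm_apply h
        split_ifs with h1 h2
        · rfl
        · exfalso
          have hgr : g = rep h := by rw [← h2, ← hgh, hrep']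
          rw [hgr] at hgh
          have hd : x ^ i * (rep h : G) * (x ^ i)⁻¹ = x ^ j * (rep h : G) * (x ^ j)⁻¹ := by
            rw [← hσ, ← hσ, hgh, hjh]
          have hiP := Finset.mem_range.mp hi
          rcases lt_or_gt_of_ne hij with hlt | hlt
          · refine hreg (j - i) (by omega) (by omega) _ (rep h).2 hrS ?_
            rw [show j = i + (j - i) by omega, pow_add] at hd
            refine (mul_left_cancel (mul_right_cancel (b := (x ^ i)⁻¹) ?_ : x ^ i * _ = x ^ i * _)).symm
            rw [hd]; group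
          · refine hreg (i - j) (by omega) (by omega) _ (rep h).2 hrS ?_
            rw [show i = j + (i - j) by omega, pow_add] at hd
            refine mul_left_cancel (mul_right_cancel (b := (x ^ j)⁻¹) ?_ : x ^ j * _ = x ^ j * _)
            rw [← hd]; group
        · rfl
      · intro hne; exact absurd (Finset.mem_range.mpr hjP) hne
  obtain ⟨c, hc⟩ : ∃ c : K, ∑ g : Q, (if (g : G) ∈ S then a g else 0) • ρ (g : G) = c • (1 : End K V) := by
    have : ∑ g : Q, (if (g : G) ∈ S then a g else 0) • ρ (g : G) ∈ Submodule.span K {(1 : End K V)} := by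
      refine Submodule.sum_mem _ fun g _ => ?_
      by_cases hg : (g : G) ∈ S
      · obtain ⟨c, hc⟩ := hg
        rw [hc, smul_smul]
        exact Submodule.smul_mem _ _ (Submodule.mem_span_singleton_self _)
      · rw [if_neg hg, zero_smul]; exact Submodule.zero_mem _
    obtain ⟨c, hc⟩ := Submodule.mem_span_singleton.mp this
    exact ⟨c, hc.symm⟩
  set L : K := (Nat.card Q : K)⁻¹ * (finrank K V : K) with hL
  have hsum : f = L • (c • 1 + trP (ρ x) (p ^ n) ψ) := by
    have he := expansion hirr' f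
    rw [hL, mul_smul, htr, ← hc, ← Finset.sum_add_distrib]
    have : ∑ g : Q, ((if (g : G) ∈ S then a g else 0) • ρ (g : G) + (if (g : G) ∈ S then 0 else a g) • ρ (g : G)) =
        ∑ g : Q, a g • ρ (g : G) := Finset.sum_congr rfl fun g _ => by split_ifs <;> simp
    rw [this]
    exact (inv_smul_smul₀ hcard f).symm.trans (congrArg _ he)
  refine ⟨L * c, L • ψ, ?_⟩
  have h2 : trP (ρ x) (p ^ n) (L • ψ) = L • trP (ρ x) (p ^ n) ψ := by
    simp [trP, mul_smul_comm, smul_mul_assoc, Finset.smul_sum]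
  rw [h2, mul_smul, ← smul_add, ← hsum]

/-- The critical case of Theorem B. -/
theorem critical (hQ : IsPGroup q Q) (hpq : p ≠ q) (hirr : QIrred ρ Q) (hord : orderOf x = p ^ n) (hxQ : Normalizes x Q)
    (hρ : Function.Injective ρ)
    (hreg : ∀ i : ℕ, i ≠ 0 → i < p ^ n → ∀ g ∈ Q, g ∉ scalars ρ → x ^ i * g * (x ^ i)⁻¹ ≠ g) (hn : 1 ≤ n) (s : ℕ)
    (hs : (ρ x - 1) ^ s = 0) (hmin : ∀ k < s, (ρ x - 1) ^ k ≠ 0) :
    p ^ n - 1 ≤ s ∧ s ≤ p ^ n ∧ (s = p ^ n - 1 → (∃ b : ℕ, p ^ n - 1 = q ^ b) ∧ ¬ IsMulCommutative Q) := by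
  have hxP : x ^ p ^ n = 1 := hord ▸ pow_orderOf_eq_one x
  have hle : s ≤ p ^ n := by
    by_contra hlt
    refine hmin (p ^ n) (by omega) ?_
    haveI : CharP (End K V) p := charP_of_injective_algebraMap (algebraMap K (End K V)).injective p
    rw [sub_pow_char_pow_of_commute p n (Commute.one_right _), one_pow, sub_eq_zero, ← map_pow, hxP, map_one]
  rcases eq_or_lt_of_le hle with heq | hlt
  · refine ⟨by omega, hle, fun h => ?_⟩
    have := Nat.pow_pos (n := n) hp.out.pos
    omega
  have hs2 : 2 ≤ s := by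
    by_contra hs2
    have h1 : x = 1 := hρ (by
      have := pow_eq_zero_of_le (show s ≤ 1 by omega) hs
      rw [pow_one, sub_eq_zero] at this
      rw [this, map_one])
    rw [h1, orderOf_one] at hord
    exact absurd hord (ne_of_lt (Nat.one_lt_pow (by omega) hp.out.one_lt))
  obtain ⟨hdim, hsP⟩ := single_block (p := p) (n := n) hs (hmin _ (by omega)) hs2 hlt
    (commutant_eq hQ hpq hirr hxP hxQ hreg)
  refine ⟨by omega, hle, fun _ => ⟨?_, fun hab => ?_⟩⟩
  · obtain ⟨b, hb⟩ := finrank_eq_pow (q := q) (K := K) (fun h => by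
        rw [CharP.cast_eq_zero_iff K p, Nat.prime_dvd_prime_iff_eq hp.out hq.out] at h
        exact hpq h) (Nat.card Q) Q V (ρ.comp Q.subtype) le_rfl hQ (qirred_top hirr)
    exact ⟨b, by omega⟩
  · have hsc : ∀ g ∈ Q, g ∈ scalars ρ := fun g hg => schur hirr (ρ g) fun k hk =>
      (Commute.map (congrArg Subtype.val (hab.is_comm.comm ⟨g, hg⟩ ⟨k, hk⟩) : Commute g k) ρ)
    obtain ⟨v, hv⟩ := exists_ne (0 : V)
    rcases hirr (Submodule.span K {v}) fun g hg w hw => by
        obtain ⟨c, hc⟩ := hsc g hg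
        rw [hc]; exact Submodule.smul_mem _ c hw with e | e
    · exact hv (Submodule.span_singleton_eq_bot.mp e)
    · have h1 := finrank_span_singleton (K := K) hv
      rw [e, finrank_top] at h1
      omega

end critical

end Cfsg.Agent.PLocal.TheoremB.Critical
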