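import Cfsg.Agent.Lib.PLocal.TheoremB.Irred

/-!
The primitive case of Theorem B of Hall and Higman.
-/

set_option linter.all false
set_option autoImplicit false

namespace Cfsg.Agent.PLocal.TheoremB

open Module (End finrank)
open scoped commutatorElement

variable {G : Type*} [Group G] {K : Type*} [Field K] {V : Type*} [AddCommGroup V] [Module K V]

/-- `x` normalizes `Q`. -/
def Normalizes (x : G) (Q : Subgroup G) : Prop := ∀ g ∈ Q, x * g * x⁻¹ ∈ Q

/-- `y` does not centralize the image of `Q`. -/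
def Moves (ρ : G →* End K V) (Q : Subgroup G) (y : G) : Prop := ∃ g ∈ Q, ¬ Commute (ρ y) (ρ g)

/-- The image of `Q` is not commutative. -/
def NonAb (ρ : G →* End K V) (Q : Subgroup G) : Prop := ∃ a ∈ Q, ∃ b ∈ Q, ¬ Commute (ρ a) (ρ b)

/-- The conclusion of Theorem B. -/
def Bound (p q n s : ℕ) (NA : Prop) : Prop :=
  p ^ n ≤ s ∨ ∃ n₀ m : ℕ, 1 ≤ n₀ ∧ n₀ ≤ n ∧ 1 ≤ m ∧ p ^ n₀ - 1 = q ^ m ∧ NA ∧
    p ^ (n - n₀) * (p ^ n₀ - 1) ≤ s

theorem Normalizes.pow {x : G} {Q : Subgroup G} (h : Normalizes x Q) :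
    ∀ i : ℕ, Normalizes (x ^ i) Q := by
  intro i
  induction i with
  | zero => intro g hg; simpa using hg
  | succ i ih =>
    intro g hg
    rw [pow_succ', show x * x ^ i * g * (x * x ^ i)⁻¹ = x * (x ^ i * g * (x ^ i)⁻¹) * x⁻¹ by group]
    exact h _ (ih g hg)

variable [Finite G] {p q : ℕ} [hp : Fact p.Prime] [hq : Fact q.Prime] [CharP K p]
  [FiniteDimensional K V] [Nontrivial V] [IsAlgClosed K] {ρ : G →* End K V} {Q : Subgroup G}
  {x : G} {n : ℕ}

/-- `Q` has no proper invariant subgroup moved by `y`. -/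
def Minimal (ρ : G →* End K V) (Q : Subgroup G) (x y : G) : Prop :=
  ∀ Q₁ : Subgroup G, Q₁ ≤ Q → Q₁ ≠ Q → Normalizes x Q₁ → ¬ Moves ρ Q₁ y

theorem closure_eq (hpq : p ≠ q) (hQ : IsPGroup q Q) {y : G} (hy : y ^ p = 1)
    (hxy : Commute x y) (hxQ : Normalizes x Q) (hyQ : Normalizes y Q)
    (hmove : Moves ρ Q y) (hmin : Minimal ρ Q x y) :
    Subgroup.closure ((fun g => g⁻¹ * (y * g * y⁻¹)) '' (Q : Set G)) = Q := by
  set R := Subgroup.closure ((fun g => g⁻¹ * (y * g * y⁻¹)) '' (Q : Set G)) with hR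
  have hle : R ≤ Q := by
    rw [hR, Subgroup.closure_le]
    rintro _ ⟨g, hg, rfl⟩
    exact mul_mem (inv_mem hg) (hyQ g hg)
  by_contra hne
  have hinv : Normalizes x R := by
    intro g hg
    induction hg using Subgroup.closure_induction with
    | mem g hg =>
      obtain ⟨a, ha, rfl⟩ := hg
      refine Subgroup.subset_closure ⟨x * a * x⁻¹, hxQ a ha, ?_⟩
      show (x * a * x⁻¹)⁻¹ * (y * (x * a * x⁻¹) * y⁻¹) = x * (a⁻¹ * (y * a * y⁻¹)) * x⁻¹
      have h1 : y * x = x * y := hxy.symm.eq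
      have h2 : x⁻¹ * y⁻¹ = y⁻¹ * x⁻¹ := by rw [← mul_inv_rev, ← mul_inv_rev, h1]
      calc (x * a * x⁻¹)⁻¹ * (y * (x * a * x⁻¹) * y⁻¹)
          = x * a⁻¹ * x⁻¹ * (y * x) * a * (x⁻¹ * y⁻¹) := by group
        _ = x * a⁻¹ * x⁻¹ * (x * y) * a * (y⁻¹ * x⁻¹) := by rw [h1, h2]
        _ = _ := by group
    | one => simpa using one_mem R
    | mul a b _ _ ha hb => rw [show x * (a * b) * x⁻¹ = x * a * x⁻¹ * (x * b * x⁻¹) by group]; exact mul_mem ha hb
    | inv a _ ha => rw [show x * a⁻¹ * x⁻¹ = (x * a * x⁻¹)⁻¹ by group]; exact inv_mem ha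
  have hcen := hmin R hle hne hinv
  obtain ⟨g, hg, hgy⟩ := hmove
  set t := g⁻¹ * (y * g * y⁻¹) with ht
  have htR : t ∈ R := Subgroup.subset_closure ⟨g, hg, rfl⟩
  have hct : Commute (ρ y) (ρ t) := by
    by_contra hc
    exact hcen ⟨t, htR, hc⟩
  have hiter : ∀ i : ℕ, ρ (y ^ i * g * (y ^ i)⁻¹) = ρ g * ρ t ^ i := by
    intro i
    induction i with
    | zero => simp
    | succ i ih =>
      rw [show y ^ (i + 1) * g * (y ^ (i + 1))⁻¹ = y * (y ^ i * g * (y ^ i)⁻¹) * y⁻¹ by rw [pow_succ']; group,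
        map_mul, map_mul, ih, show ρ y * (ρ g * ρ t ^ i) * ρ y⁻¹ = ρ y * ρ g * ρ t ^ i * ρ y⁻¹ by
          simp only [mul_assoc]]
      have h1 : ρ t ^ i * ρ y⁻¹ = ρ y⁻¹ * ρ t ^ i := by
        have h0 : Commute (ρ y⁻¹) (ρ t) := by
          refine Commute.units_inv_left (u := ⟨ρ y, ρ y⁻¹, ?_, ?_⟩) hct <;> rw [← map_mul] <;> simp
        exact (h0.pow_right i).symm.eq
      rw [mul_assoc (ρ y * ρ g), h1, ← mul_assoc, ← map_mul, ← map_mul,
        show y * g * y⁻¹ = g * t by rw [ht]; group, map_mul, mul_assoc, ← pow_succ']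
  have hone : ρ t ^ p = 1 := by
    have := hiter p
    rw [hy, inv_one, one_mul, mul_one] at this
    calc ρ t ^ p = ρ g⁻¹ * (ρ g * ρ t ^ p) := by rw [← mul_assoc, ← map_mul, inv_mul_cancel, map_one, one_mul]
      _ = 1 := by rw [← this, ← map_mul, inv_mul_cancel, map_one]
  obtain ⟨k, hk⟩ := hQ ⟨t, hle htR⟩
  have hqk : ρ t ^ q ^ k = 1 := by
    have := congrArg (fun a : Q => ρ (a : G)) hk
    simpa using this
  have hcop : Nat.gcd p (q ^ k) = 1 := Nat.Coprime.pow_right k ((Nat.coprime_primes hp.out hq.out).mpr hpq)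
  have : ρ t = 1 := by
    have h := pow_gcd_eq_one.mpr ⟨hone, hqk⟩
    rwa [hcop, pow_one] at h
  refine hgy ?_
  have h2 : ρ (y * g) = ρ (g * y) := by
    rw [show y * g = g * t * y by rw [ht]; group, map_mul, map_mul, this, mul_one, map_mul]
  simpa [Commute, SemiconjBy] using h2

theorem mem_scalars_of_centralized (hirr : QIrred ρ Q) {y : G}
    (hgen : Subgroup.closure ((fun g => g⁻¹ * (y * g * y⁻¹)) '' (Q : Set G)) = Q)
    {R : Subgroup G} (hRn : ∀ g ∈ Q, ∀ d ∈ R, g * d * g⁻¹ ∈ R) (hRc : ∀ d ∈ R, Commute (ρ y) (ρ d)) :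
    R ≤ scalars ρ := by
  intro d hd
  refine schur hirr _ fun k hk => ?_
  rw [← hgen] at hk
  suffices hall : ∀ d ∈ R, Commute (ρ d) (ρ k) from hall d hd
  clear hd d
  induction hk using Subgroup.closure_induction with
  | mem k hk =>
    intro d hd
    obtain ⟨g, hg, rfl⟩ := hk
    have h1 := hRc _ (hRn g hg d hd)
    have hy : ρ (y * (g * d * g⁻¹) * y⁻¹) = ρ (g * d * g⁻¹) := by
      rw [map_mul, map_mul, h1.eq, mul_assoc, ← map_mul, mul_inv_cancel, map_one, mul_one]
    have hd' : ρ (y * d * y⁻¹) = ρ d := by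
      rw [map_mul, map_mul, (hRc d hd).eq, mul_assoc, ← map_mul, mul_inv_cancel, map_one, mul_one]
    show ρ d * ρ (g⁻¹ * (y * g * y⁻¹)) = ρ (g⁻¹ * (y * g * y⁻¹)) * ρ d
    symm
    calc ρ (g⁻¹ * (y * g * y⁻¹)) * ρ d = ρ (g⁻¹ * (y * g * y⁻¹)) * ρ (y * d * y⁻¹) := by rw [hd']
      _ = ρ g⁻¹ * ρ (y * (g * d * g⁻¹) * y⁻¹) * ρ (y * g * y⁻¹) := by simp only [← map_mul]; congr 1; group
      _ = ρ g⁻¹ * ρ (g * d * g⁻¹) * ρ (y * g * y⁻¹) := by rw [hy]
      _ = _ := by simp only [← map_mul]; congr 1; group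
  | one => intro d hd; simp
  | mul a b _ _ ha hb => intro d hd; rw [map_mul]; exact (ha d hd).mul_right (hb d hd)
  | inv a _ ha =>
    intro d hd
    exact Commute.units_inv_right (u := ⟨ρ a, ρ a⁻¹, by rw [← map_mul]; simp, by rw [← map_mul]; simp⟩) (ha d hd)

theorem commutator_mem_scalars (hQ : IsPGroup q Q) (hirr : QIrred ρ Q) {y : G}
    (hgen : Subgroup.closure ((fun g => g⁻¹ * (y * g * y⁻¹)) '' (Q : Set G)) = Q)
    (hxQ : Normalizes x Q) (hmin : Minimal ρ Q x y) (hQne : Q ≠ ⊥) :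
    ∀ a ∈ Q, ∀ b ∈ Q, ⁅a, b⁆ ∈ scalars ρ := by
  set R : Subgroup G := ⁅Q, Q⁆ with hR
  have hle : R ≤ Q := by
    rw [hR, Subgroup.commutator_le]
    intro a ha b hb
    exact mul_mem (mul_mem (mul_mem ha hb) (inv_mem ha)) (inv_mem hb)
  have hconj : ∀ g : G, Normalizes g Q → Normalizes g R := by
    intro g hg d hd
    have : R ≤ R.comap (MulAut.conj g).toMonoidHom := by
      conv_lhs => rw [hR]
      rw [Subgroup.commutator_le]
      intro a ha b hb
      rw [Subgroup.mem_comap, map_commutatorElement]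
      exact Subgroup.commutator_mem_commutator (hg a ha) (hg b hb)
    exact this hd
  have hne : R ≠ Q := by
    intro he
    haveI := hQ.isNilpotent
    haveI : Nontrivial Q := (Subgroup.nontrivial_iff_ne_bot Q).mpr hQne
    have h1 := Group.IsSolvable.commutator_lt_top_of_nontrivial Q
    refine h1.ne ?_
    refine Subgroup.map_injective Q.subtype_injective ?_
    rw [Subgroup.map_subtype_commutator, ← MonoidHom.range_eq_map, Subgroup.range_subtype]
    exact he
  have hRc : ∀ d ∈ R, Commute (ρ y) (ρ d) := fun d hd => by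
    by_contra hc
    exact hmin R hle hne (hconj x hxQ) ⟨d, hd, hc⟩
  intro a ha b hb
  exact mem_scalars_of_centralized hirr hgen
    (fun g hg => hconj g (fun c hc => mul_mem (mul_mem hg hc) (inv_mem hg))) hRc
    (Subgroup.commutator_mem_commutator ha hb)

theorem regular (hirr : QIrred ρ Q) {y : G} (hy : y = x ^ p ^ (n - 1))
    (hgen : Subgroup.closure ((fun g => g⁻¹ * (y * g * y⁻¹)) '' (Q : Set G)) = Q)
    (hcomm : ∀ a ∈ Q, ∀ b ∈ Q, ⁅a, b⁆ ∈ scalars ρ)
    (hxP : x ^ p ^ n = 1) (hxQ : Normalizes x Q) (hmove : Moves ρ Q y) (hmin : Minimal ρ Q x y)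
    {i : ℕ} (hi0 : i ≠ 0) (hi : i < p ^ n) {g : G} (hg : g ∈ Q) (hgS : g ∉ scalars ρ) :
    x ^ i * g * (x ^ i)⁻¹ ≠ g := by
  intro hfix
  set S := scalars ρ with hS
  set π := QuotientGroup.mk' S with hπ
  set R := Q ⊓ (Subgroup.centralizer {π (x ^ i)}).comap π with hR
  have hmem : ∀ {d : G}, d ∈ R ↔ d ∈ Q ∧ Commute (π (x ^ i)) (π d) := by
    intro d
    rw [hR, Subgroup.mem_inf, Subgroup.mem_comap, Subgroup.mem_centralizer_singleton_iff]
    exact ⟨fun h => ⟨h.1, h.2.symm⟩, fun h => ⟨h.1, h.2.symm⟩⟩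
  have hgR : g ∈ R := by
    refine hmem.mpr ⟨hg, ?_⟩
    have := congrArg π (mul_inv_eq_iff_eq_mul.mp hfix)
    rwa [map_mul, map_mul] at this
  have hinv : Normalizes x R := by
    intro d hd
    obtain ⟨hdQ, hdc⟩ := hmem.mp hd
    refine hmem.mpr ⟨hxQ d hdQ, ?_⟩
    have hxx : Commute (π (x ^ i)) (π x) := ((Commute.refl x).pow_left i).map π
    rw [map_mul, map_mul, map_inv]
    exact (hxx.mul_right hdc).mul_right hxx.inv_right
  by_cases hRQ : R = Q
  · -- then `y` centralizes `Q` modulo the scalars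
    have hgcd : Nat.gcd i (p ^ n) ∣ p ^ n := Nat.gcd_dvd_right _ _
    obtain ⟨v, hv, hve⟩ := (Nat.dvd_prime_pow hp.out).mp hgcd
    have hvn : v < n := by
      rcases lt_or_eq_of_le hv with h | h
      · exact h
      · exfalso
        have := Nat.le_of_dvd (Nat.pos_of_ne_zero hi0) (Nat.gcd_dvd_left i (p ^ n))
        rw [hve, h] at this
        omega
    have hyz : π y ∈ Subgroup.zpowers (π (x ^ i)) := by
      have h1 : x ^ p ^ v ∈ Subgroup.zpowers (x ^ i) := by
        refine ⟨Nat.gcdA i (p ^ n), ?_⟩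
        have h2 := Nat.gcd_eq_gcd_ab i (p ^ n)
        rw [hve] at h2
        show (x ^ i) ^ (Nat.gcdA i (p ^ n)) = x ^ p ^ v
        rw [← zpow_natCast x (p ^ v), h2, zpow_add, zpow_mul, zpow_mul, zpow_natCast, zpow_natCast, hxP, one_zpow,
          mul_one]
      have h3 : y ∈ Subgroup.zpowers (x ^ i) := by
        rw [hy, show p ^ (n - 1) = p ^ v * p ^ (n - 1 - v) by rw [← pow_add]; congr 1; omega, pow_mul]
        exact pow_mem h1 _
      obtain ⟨k, hk⟩ := h3
      exact ⟨k, by rw [← hk, map_zpow]⟩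
    obtain ⟨a, ha, hna⟩ := hmove
    refine hna ?_
    have hQS : Q ≤ S := by
      rw [← hgen, Subgroup.closure_le]
      rintro _ ⟨b, hb, rfl⟩
      have hcb : Commute (π y) (π b) := by
        obtain ⟨k, hk⟩ := hyz
        rw [← hk]
        exact (hmem.mp (hRQ.symm ▸ hb : b ∈ R)).2.zpow_left k
      rw [SetLike.mem_coe, ← QuotientGroup.eq_one_iff]
      show π (b⁻¹ * (y * b * y⁻¹)) = 1
      rw [map_mul, map_mul, map_mul, map_inv, map_inv, hcb.eq, mul_inv_cancel_right, inv_mul_cancel]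
    obtain ⟨c, hc⟩ := hQS ha
    rw [hc]
    exact (Commute.one_right _).smul_right c
  · have hRc : ∀ d ∈ R, Commute (ρ y) (ρ d) := fun d hd => by
      by_contra hc
      exact hmin R inf_le_left hRQ hinv ⟨d, hd, hc⟩
    refine hgS (mem_scalars_of_centralized hirr hgen (fun a ha d hd => ?_) hRc hgR)
    obtain ⟨hdQ, hdc⟩ := hmem.mp hd
    refine hmem.mpr ⟨mul_mem (mul_mem ha hdQ) (inv_mem ha), ?_⟩
    have : π (a * d * a⁻¹) = π d := by
      have h1 : π ⁅a, d⁆ = 1 := (QuotientGroup.eq_one_iff _).mpr (hcomm a ha d hdQ)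
      rw [show a * d * a⁻¹ = ⁅a, d⁆ * d by simp [commutatorElement_def], map_mul, h1, one_mul]
    rwa [this]

/-- Elements of the commutant of `x` are scalars plus traces. -/
theorem commutant_eq (hQ : IsPGroup q Q) (hpq : p ≠ q) (hirr : QIrred ρ Q)
    (hcomm : ∀ a ∈ Q, ∀ b ∈ Q, ⁅a, b⁆ ∈ scalars ρ) (hxP : x ^ p ^ n = 1) (hxQ : Normalizes x Q)
    (hreg : ∀ i : ℕ, i ≠ 0 → i < p ^ n → ∀ g ∈ Q, g ∉ scalars ρ → x ^ i * g * (x ^ i)⁻¹ ≠ g)
    (f : End K V) (hf : Commute (ρ x) f) :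
    ∃ (c : K) (φ : End K V), f = c • 1 + trP (ρ x) (p ^ n) φ := by
  classical
  haveI := Fintype.ofFinite Q
  set S := scalars ρ with hS
  set D : K := (finrank K V : K) with hD
  set A : End K V → Q → K := fun f g => LinearMap.trace K V (ρ ((g : G)⁻¹) * f) with hA
  set Z : Finset Q := Finset.univ.filter fun g : Q => (g : G) ∈ S with hZ
  set N : K := (Z.card : K) * D with hN
  have hN0 : N ≠ 0 := by
    refine mul_ne_zero ?_ (dim_ne_zero hirr hcomm)
    have hcard : Z.card = Nat.card (S.subgroupOf Q) := by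
      rw [hZ, Nat.card_eq_fintype_card, ← Fintype.card_subtype]
      exact Fintype.card_congr (Equiv.refl _)
    obtain ⟨j, hj⟩ := (hQ.to_subgroup (S.subgroupOf Q)).exists_card_eq
    rw [hcard, hj, Nat.cast_pow]
    refine pow_ne_zero j ?_
    rw [Ne, CharP.cast_eq_zero_iff K p, Nat.prime_dvd_prime_iff_eq hp.out hq.out]
    exact hpq
  -- the expansion of an endomorphism
  have hexp : ∀ f, N • f = ∑ g : Q, A f g • ρ (g : G) := by
    intro f
    refine Submodule.span_induction (p := fun f _ => N • f = ∑ g : Q, A f g • ρ (g : G)) ?_ ?_ ?_ ?_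
      (density hirr f)
    · rintro _ ⟨h, hh, rfl⟩
      rw [← Fintype.sum_equiv (Equiv.mulLeft (⟨h, hh⟩ : Q)) (fun g => A (ρ h) (⟨h, hh⟩ * g) • ρ (h * g))
        (fun g => A (ρ h) g • ρ (g : G)) (fun g => by simp)]
      rw [← Finset.sum_subset (Finset.subset_univ Z)]
      · rw [Finset.sum_congr rfl (g := fun _ => D • ρ h)]
        · rw [Finset.sum_const, hN, mul_smul, Nat.cast_smul_eq_nsmul]
        · intro g hg
          obtain ⟨c, hc⟩ := (Finset.mem_filter.mp hg).2
          have hinv : ρ (g : G)⁻¹ = c⁻¹ • 1 := by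
            have h1 : ρ (g : G)⁻¹ * ρ (g : G) = 1 := by rw [← map_mul, inv_mul_cancel, map_one]
            rw [hc, mul_smul_comm, mul_one] at h1
            rw [← h1, smul_smul, inv_mul_cancel₀ (scalar_ne_zero hc), one_smul]
          simp only [hA, Subgroup.coe_mul]
          rw [mul_inv_rev, map_mul ρ, mul_assoc, ← map_mul ρ h⁻¹, inv_mul_cancel, map_one, mul_one, hinv, map_smul,
            LinearMap.trace_one, map_mul ρ, hc, mul_smul_comm, mul_one, smul_smul, ← hD, smul_eq_mul,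
            mul_comm (c⁻¹ * D), ← mul_assoc, mul_inv_cancel₀ (scalar_ne_zero hc), one_mul]
      · intro g _ hg
        have hg' : (g : G) ∉ S := fun hm => hg (Finset.mem_filter.mpr ⟨Finset.mem_univ _, hm⟩)
        simp only [hA, Subgroup.coe_mul]
        rw [mul_inv_rev, map_mul ρ, mul_assoc, ← map_mul ρ h⁻¹, inv_mul_cancel, map_one, mul_one,
          trace_eq_zero hirr (fun k hk => hcomm k hk _ (inv_mem g.2)) (fun hm => hg' (by simpa using inv_mem hm)),
          zero_smul]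
    · simp [hA]
    · intro a b _ _ ha hb
      simp only [hA, mul_add, map_add, add_smul, Finset.sum_add_distrib, smul_add] at ha hb ⊢
      rw [ha, hb]
    · intro c a _ ha
      simp only [hA, mul_smul_comm, map_smul, smul_eq_mul, mul_smul] at ha ⊢
      rw [← Finset.smul_sum, ← ha, smul_comm]
  -- the permutation
  let σ : Equiv.Perm Q := Equiv.ofBijective (fun g : Q => (⟨x * g * x⁻¹, hxQ _ g.2⟩ : Q))
    (Finite.injective_iff_bijective.mp fun a b h => by
      simpa using congrArg Subtype.val h)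
  have hσ : ∀ (i : ℕ) (g : Q), (((σ ^ i) g : Q) : G) = x ^ i * g * (x ^ i)⁻¹ := by
    intro i
    induction i with
    | zero => simp
    | succ i ih =>
      intro g
      rw [pow_succ', Equiv.Perm.mul_apply]
      show x * ((σ ^ i) g : Q) * x⁻¹ = _
      rw [ih, pow_succ']; group
  have hσP : σ ^ p ^ n = 1 := Equiv.ext fun g => Subtype.ext (by rw [hσ, hxP]; simp)
  let rep : Q → Q := fun g => (Quotient.mk (Equiv.Perm.SameCycle.setoid σ) g).out
  have hrep : ∀ g, σ.SameCycle (rep g) g := fun g =>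
    @Quotient.exact _ (Equiv.Perm.SameCycle.setoid σ) _ _ (Quotient.out_eq (Quotient.mk (Equiv.Perm.SameCycle.setoid σ) g))
  have hrep' : ∀ g (i : ℕ), rep ((σ ^ i) g) = rep g := fun g i => by
    refine congrArg Quotient.out (Quotient.sound ?_)
    show σ.SameCycle ((σ ^ i) g) g
    exact (Equiv.Perm.sameCycle_pow_left (n := i)).mpr (Equiv.Perm.SameCycle.refl _ _)
  set a := A f with ha
  have haσ : ∀ (g : Q) (i : ℕ), a ((σ ^ i) g) = a g := by
    intro g i
    simp only [ha, hA, hσ]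
    rw [show (x ^ i * g * (x ^ i)⁻¹)⁻¹ = x ^ i * ((g : G)⁻¹ * (x ^ i)⁻¹) by group, map_mul ρ, mul_assoc,
      LinearMap.trace_mul_comm, map_mul ρ, mul_assoc, mul_assoc]
    congr 2
    have : f * ρ (x ^ i) = ρ (x ^ i) * f := by rw [map_pow]; exact (hf.pow_left i).symm.eq
    rw [this, ← mul_assoc, ← map_mul, inv_mul_cancel, map_one, one_mul]
  set u : Q → K := fun g => if (g : G) ∈ S then 0 else if rep g = g then 1 else 0 with hu
  set ψ : End K V := ∑ g : Q, (u g * a g) • ρ (g : G) with hψ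
  have hSσ : ∀ (g : Q) (i : ℕ), (((σ ^ i) g : Q) : G) ∈ S ↔ (g : G) ∈ S := by
    intro g i
    rw [hσ]
    refine ⟨fun h => ?_, fun h => (scalars_normal ρ).conj_mem _ h _⟩
    have := (scalars_normal ρ).conj_mem _ h (x ^ i)⁻¹
    rwa [show (x ^ i)⁻¹ * (x ^ i * g * (x ^ i)⁻¹) * (x ^ i)⁻¹⁻¹ = (g : G) by group] at this
  have htr : trP (ρ x) (p ^ n) ψ = ∑ g : Q, (if (g : G) ∈ S then 0 else a g) • ρ (g : G) := by
    have hterm : ∀ i, ρ x ^ i * ψ * (ρ x ^ (p ^ n - 1)) ^ i =
        ∑ h : Q, (u ((σ ^ i)⁻¹ h) * a h) • ρ (h : G) := by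
      intro i
      have hinv : (ρ x ^ (p ^ n - 1)) ^ i = ρ ((x ^ i)⁻¹) := by
        rw [← map_pow, ← map_pow]
        congr 1
        rw [← inv_pow]
        congr 1
        refine eq_inv_of_mul_eq_one_left ?_
        rw [← pow_succ, Nat.sub_add_cancel (Nat.one_le_pow _ _ hp.out.pos), hxP]
      rw [hψ, Finset.mul_sum, Finset.sum_mul]
      refine Fintype.sum_equiv (σ ^ i) _ _ fun g => ?_
      rw [mul_smul_comm, smul_mul_assoc, hinv, ← map_pow, ← map_mul, ← map_mul, ← hσ, haσ,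
        show (σ ^ i)⁻¹ ((σ ^ i) g) = g from (σ ^ i).symm_apply_apply g]
    rw [trP, Finset.sum_congr rfl (fun i _ => hterm i), Finset.sum_comm]
    refine Finset.sum_congr rfl fun h _ => ?_
    rw [← Finset.sum_smul, ← Finset.sum_mul]
    congr 1
    by_cases hhS : (h : G) ∈ S
    · rw [if_pos hhS, Finset.sum_eq_zero, zero_mul]
      intro i _
      simp only [hu]
      rw [if_pos]
      have := hSσ ((σ ^ i)⁻¹ h) i
      rw [show (σ ^ i) ((σ ^ i)⁻¹ h) = h from (σ ^ i).apply_symm_apply h] at this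
      exact this.mp hhS
    · rw [if_neg hhS]
      suffices hs : ∑ i ∈ Finset.range (p ^ n), u ((σ ^ i)⁻¹ h) = 1 by rw [hs, one_mul]
      obtain ⟨j, hj, hjh⟩ := (hrep h).exists_pow_eq'
      have hjP : j < p ^ n := hj.trans_le (Nat.le_of_dvd (Nat.pow_pos hp.out.pos) (orderOf_dvd_of_pow_eq_one hσP))
      have hrS : ((rep h : Q) : G) ∉ S := fun hm => hhS (by rw [← hjh]; exact (hSσ _ j).mpr hm)
      have hback : (σ ^ j)⁻¹ h = rep h := by
        conv_lhs => rw [← hjh]
        exact (σ ^ j).symm_apply_apply _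
      rw [Finset.sum_eq_single j]
      · simp only [hu]
        rw [hback, if_neg hrS, if_pos]
        have := hrep' (rep h) j
        rw [hjh] at this
        exact this.symm
      · intro i hi hij
        simp only [hu]
        set g := (σ ^ i)⁻¹ h with hg
        have hgh : (σ ^ i) g = h := (σ ^ i).apply_symm_apply h
        split_ifs with h1 h2
        · rfl
        · exfalso
          have hgr : g = rep h := by rw [← h2, ← hgh, hrep']
          rw [hgr] at hgh
          have hd : x ^ i * (rep h : G) * (x ^ i)⁻¹ = x ^ j * (rep h : G) * (x ^ j)⁻¹ := by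
            rw [← hσ, ← hσ, hgh, hjh]
          have hiP := Finset.mem_range.mp hi
          rcases lt_or_gt_of_ne hij with hlt | hlt
          · refine hreg (j - i) (by omega) (by omega) _ (rep h).2 hrS ?_
            rw [show j = i + (j - i) by omega, pow_add] at hd
            refine (mul_left_cancel (mul_right_cancel (b := (x ^ i)⁻¹) ?_ : x ^ i * _ = x ^ i * _)).symm
            rw [hd]; group
          · refine hreg (i - j) (by omega) (by omega) _ (rep h).2 hrS ?_
            rw [show i = j + (i - j) by omega, pow_add] at hd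
            refine mul_left_cancel (mul_right_cancel (b := (x ^ j)⁻¹) ?_ : x ^ j * _ = x ^ j * _)
            rw [← hd]; group
        · rfl
      · intro hne; exact absurd (Finset.mem_range.mpr hjP) hne
  have hcs : ∃ c : K, ∑ g : Q, (if (g : G) ∈ S then a g else 0) • ρ (g : G) = c • (1 : End K V) := by
    have : ∑ g : Q, (if (g : G) ∈ S then a g else 0) • ρ (g : G) ∈ Submodule.span K {(1 : End K V)} := by
      refine Submodule.sum_mem _ fun g _ => ?_
      by_cases hg : (g : G) ∈ S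
      · obtain ⟨c, hc⟩ := hg
        rw [hc, smul_smul]
        exact Submodule.smul_mem _ _ (Submodule.mem_span_singleton_self _)
      · rw [if_neg hg, zero_smul]; exact Submodule.zero_mem _
    obtain ⟨c, hc⟩ := Submodule.mem_span_singleton.mp this
    exact ⟨c, hc.symm⟩
  obtain ⟨c, hc⟩ := hcs
  have hsum : N • f = c • 1 + trP (ρ x) (p ^ n) ψ := by
    rw [hexp, htr, ← hc, ← Finset.sum_add_distrib]
    refine Finset.sum_congr rfl fun g _ => ?_
    rw [← add_smul]
    split_ifs <;> simp [ha]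
  refine ⟨N⁻¹ * c, N⁻¹ • ψ, ?_⟩
  have h2 : trP (ρ x) (p ^ n) (N⁻¹ • ψ) = N⁻¹ • trP (ρ x) (p ^ n) ψ := by
    simp [trP, mul_smul_comm, smul_mul_assoc, Finset.smul_sum]
  rw [h2, mul_smul, ← smul_add, ← hsum, smul_smul, inv_mul_cancel₀ hN0, one_smul]

/-- The primitive case. -/
theorem primitive_case (hQ : IsPGroup q Q) (hpq : p ≠ q) (hxP : x ^ p ^ n = 1) (hn : 1 ≤ n)
    (hxQ : Normalizes x Q) (hmove : Moves ρ Q (x ^ p ^ (n - 1)))
    (hmin : Minimal ρ Q x (x ^ p ^ (n - 1))) (hirr : QIrred ρ Q) (s : ℕ) (hs : (ρ x - 1) ^ s = 0) :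
    Bound p q n s (NonAb ρ Q) := by
  classical
  set y := x ^ p ^ (n - 1) with hy
  rcases le_or_gt (p ^ n) s with hle | hlt
  · exact Or.inl hle
  have hxy : Commute x y := (Commute.refl x).pow_right _
  have hyP : y ^ p = 1 := by rw [hy, ← pow_mul, ← pow_succ, Nat.sub_add_cancel hn, hxP]
  have hgen := closure_eq hpq hQ hyP hxy hxQ (hxQ.pow _) hmove hmin
  have hQne : Q ≠ ⊥ := by
    rintro rfl
    obtain ⟨g, hg, hg'⟩ := hmove
    rw [Subgroup.mem_bot.mp hg, map_one] at hg'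
    exact hg' (Commute.one_right _)
  have hcomm := commutator_mem_scalars hQ hirr hgen hxQ hmin hQne
  have hna : NonAb ρ Q := by
    by_contra hab
    obtain ⟨g, hg, hg'⟩ := hmove
    refine hg' ?_
    obtain ⟨c, hc⟩ := schur hirr (ρ g) fun k hk => by
      by_contra hc
      exact hab ⟨g, hg, k, hk, hc⟩
    rw [hc]
    exact (Commute.one_right _).smul_right c
  have hex : ∃ r, (ρ x - 1) ^ r = 0 := ⟨s, hs⟩
  set r := Nat.find hex with hr
  have hrs : r ≤ s := Nat.find_min' hex hs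
  have hr0 : (ρ x - 1) ^ r = 0 := Nat.find_spec hex
  have hr2 : 2 ≤ r := by
    by_contra hlt2
    have h1 : ρ x - 1 = 0 := by
      have := pow_eq_zero_of_le (show r ≤ 1 by omega) hr0
      rwa [pow_one] at this
    obtain ⟨g, -, hg'⟩ := hmove
    refine hg' ?_
    rw [hy, map_pow, sub_eq_zero.mp h1, one_pow]
    exact Commute.one_left _
  have hr1 : (ρ x - 1) ^ (r - 1) ≠ 0 := Nat.find_min hex (by omega)
  obtain ⟨hdim, hrP⟩ := single_block (p := p) (n := n) hr0 hr1 hr2 (by omega)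
    (commutant_eq hQ hpq hirr hcomm hxP hxQ fun i h0 hi g hg hgS =>
      regular hirr hy hgen hcomm hxP hxQ hmove hmin h0 hi hg hgS)
  obtain ⟨j, hj⟩ := hQ.index ((scalars ρ).subgroupOf Q)
  have hsq := finrank_sq hirr hcomm
  rw [hj, hdim] at hsq
  obtain ⟨m, -, hm⟩ := (Nat.dvd_prime_pow hq.out).mp (Dvd.intro r hsq : r ∣ q ^ j)
  refine Or.inr ⟨n, m, hn, le_rfl, ?_, by omega, hna, by rw [Nat.sub_self, pow_zero, one_mul]; omega⟩
  by_contra h0
  obtain rfl : m = 0 := by omega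
  rw [pow_zero] at hm
  omega

end Cfsg.Agent.PLocal.TheoremB
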