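import Cfsg.Agent.Lib.PLocal.TheoremB.Primitive

/-!
An irreducible constituent of a normal subgroup, moved to one invariant under its inertia group.
-/

set_option linter.all false
set_option autoImplicit false

namespace Cfsg.Agent.PLocal.TheoremB

open Module (End finrank)

variable {G : Type*} [Group G] {K : Type*} [Field K] {V : Type*} [AddCommGroup V] [Module K V]
  {ρ : G →* End K V}

/-- The action of `Q` on an invariant subspace. -/
def subAct (ρ : G →* End K V) (Q : Subgroup G) (U : Submodule K V) (hU : ∀ g ∈ Q, ∀ w ∈ U, ρ g w ∈ U) :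
    Q →* End K U where
  toFun g := (ρ (g : G)).restrict (hU g g.2)
  map_one' := by ext w; simp [LinearMap.restrict_apply]
  map_mul' a b := by ext w; simp [LinearMap.restrict_apply]

theorem subAct_apply {Q : Subgroup G} {U : Submodule K V} (hU : ∀ g ∈ Q, ∀ w ∈ U, ρ g w ∈ U) (g : Q) (w : U) :
    ((subAct ρ Q U hU g w : U) : V) = ρ (g : G) w := rfl

variable [Finite G] {p : ℕ} [hp : Fact p.Prime] [CharP K p] [FiniteDimensional K V] [IsAlgClosed K]
  {Q : Subgroup G} {x : G} {n : ℕ}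

/-- An invariant constituent of the inertia group. -/
theorem inertia_constituent [Nontrivial V] (hxP : x ^ p ^ n = 1) (hxQ : Normalizes x Q) :
    ∃ k ≤ n, ∃ U : Submodule K V, U ≠ ⊥ ∧ (∀ g ∈ Q, ∀ w ∈ U, ρ g w ∈ U) ∧ (∀ w ∈ U, ρ (x ^ p ^ k) w ∈ U) ∧
      (∀ W ≤ U, (∀ g ∈ Q, ∀ w ∈ W, ρ g w ∈ W) → W = ⊥ ∨ W = U) ∧ (1 ≤ k → U ≠ ⊤) ∧
      (∀ w ∈ U, w ≠ 0 → ∑ i ∈ Finset.range (p ^ k), ρ (x ^ i) w ≠ 0) ∧
      ((∀ (U' : Submodule K V) (hU' : ∀ g ∈ Q, ∀ w ∈ U', ρ g w ∈ U'), U' ≠ ⊥ →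
        (∀ W ≤ U', (∀ g ∈ Q, ∀ w ∈ W, ρ g w ∈ W) → W = ⊥ ∨ W = U') →
        ∃ T : End K U', T ≠ 0 ∧ ∀ g g' : Q, (g' : G) = x * g * x⁻¹ →
          T * subAct ρ Q U' hU' g = subAct ρ Q U' hU' g' * T) → k = 0) := by
  classical
  set P := p ^ n with hP
  have hP0 : 0 < P := Nat.pow_pos hp.out.pos
  obtain ⟨U, ⟨hU0, hUQ⟩, hUmin⟩ := (wellFounded_lt (α := Submodule K V)).has_min
    {U : Submodule K V | U ≠ ⊥ ∧ ∀ g ∈ Q, ∀ w ∈ U, ρ g w ∈ U} ⟨⊤, top_ne_bot, fun _ _ _ _ => Submodule.mem_top⟩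
  have hirrU : ∀ W ≤ U, (∀ g ∈ Q, ∀ w ∈ W, ρ g w ∈ W) → W = ⊥ ∨ W = U := fun W hW hWQ =>
    or_iff_not_imp_left.mpr fun h0 => eq_of_le_of_not_lt hW (hUmin W ⟨h0, hWQ⟩)
  haveI : Nontrivial U := Submodule.nontrivial_iff_ne_bot.mpr hU0
  set σ := subAct ρ Q U hUQ with hσ
  have hσirr : QIrred σ ⊤ := by
    intro W hW
    rcases hirrU (W.map U.subtype) (Submodule.map_subtype_le U W) (fun g hg w hw => by
      obtain ⟨w', hw', rfl⟩ := hw
      exact ⟨σ ⟨g, hg⟩ w', hW _ trivial w' hw', rfl⟩) with e | e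
    · exact Or.inl (Submodule.map_injective_of_injective U.injective_subtype (e.trans (Submodule.map_bot _).symm))
    · exact Or.inr (Submodule.map_injective_of_injective U.injective_subtype (e.trans (Submodule.map_subtype_top U).symm))
  -- conjugation by powers of `x`
  let cj : ℕ → Q → Q := fun i g => ⟨x ^ i * g * (x ^ i)⁻¹, hxQ.pow i g g.2⟩
  have hcadd : ∀ i j g, cj (i + j) g = cj i (cj j g) := fun i j g => Subtype.ext (by
    show x ^ (i + j) * (g : G) * (x ^ (i + j))⁻¹ = x ^ i * (x ^ j * g * (x ^ j)⁻¹) * (x ^ i)⁻¹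
    rw [pow_add]; group)
  have hcmod : ∀ i g, cj (i + P) g = cj i g := fun i g => Subtype.ext (by
    show x ^ (i + P) * (g : G) * (x ^ (i + P))⁻¹ = x ^ i * g * (x ^ i)⁻¹
    rw [pow_add, hxP, mul_one])
  have hc0 : ∀ g, cj 0 g = g := fun g => Subtype.ext (by
    show x ^ 0 * (g : G) * (x ^ 0)⁻¹ = g
    simp)
  have hcmul : ∀ i m g, cj (i + m * P) g = cj i g := by
    intro i m g
    induction m with
    | zero => simp
    | succ m ih => rw [show i + (m + 1) * P = (i + m * P) + P by ring, hcmod, ih]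
  have hcsurj : ∀ i h, ∃ g, cj i g = h := fun i h => ⟨cj (i * P - i) h, by
    rw [← hcadd, Nat.add_sub_cancel' (Nat.le_mul_of_pos_right i hP0)]
    conv_lhs => rw [show i * P = 0 + i * P by ring, hcmul, hc0]⟩
  set S := {i : ℕ | ∃ T : End K U, T ≠ 0 ∧ ∀ g, T * σ g = σ (cj i g) * T} with hS
  have hunit : ∀ {i} {T : End K U}, T ≠ 0 → (∀ g, T * σ g = σ (cj i g) * T) → IsUnit T := by
    intro i T hT0 hT
    have hinj : Function.Injective T := by
      rw [← LinearMap.ker_eq_bot]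
      refine (hσirr (LinearMap.ker T) fun g _ w hw => ?_).resolve_right fun h => hT0 (LinearMap.ker_eq_top.mp h)
      rw [LinearMap.mem_ker] at hw ⊢
      rw [← Module.End.mul_apply, hT, Module.End.mul_apply, hw, map_zero]
    exact (Module.End.isUnit_iff T).mpr ⟨hinj, LinearMap.surjective_of_injective hinj⟩
  have hadd : ∀ i ∈ S, ∀ j ∈ S, i + j ∈ S := by
    rintro i ⟨T, hT0, hT⟩ j ⟨T', hT0', hT'⟩
    refine ⟨T * T', ((hunit hT0 hT).mul (hunit hT0' hT')).ne_zero, fun g => ?_⟩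
    rw [mul_assoc, hT', ← mul_assoc, hT, mul_assoc, ← hcadd]
  have hmod : ∀ i m, i + m * P ∈ S → i ∈ S := by
    rintro i m ⟨T, hT0, hT⟩
    exact ⟨T, hT0, fun g => by rw [hT g, hcmul]⟩
  have hmulS : ∀ i ∈ S, ∀ m, i * m ∈ S := by
    intro i hi m
    induction m with
    | zero => exact ⟨1, one_ne_zero, fun g => by rw [Nat.mul_zero, hc0, one_mul, mul_one]⟩
    | succ m ih => rw [Nat.mul_succ]; exact hadd _ ih _ hi
  have hPS : P ∈ S := ⟨1, one_ne_zero, fun g => by rw [← Nat.zero_add P, hcmod, hc0, one_mul, mul_one]⟩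
  have hex : ∃ e, 0 < e ∧ e ∈ S := ⟨P, hP0, hPS⟩
  set e := Nat.find hex with he
  obtain ⟨he0, heS⟩ := Nat.find_spec hex
  have hdvd : ∀ i ∈ S, e ∣ i := by
    intro i hi
    refine Nat.dvd_of_mod_eq_zero ?_
    by_contra h
    refine Nat.find_min hex (Nat.mod_lt i he0) ⟨Nat.pos_of_ne_zero h, hmod _ (e * (i / e)) ?_⟩
    have := hadd _ hi _ (hmulS _ heS ((P - 1) * (i / e)))
    convert this using 1
    obtain ⟨P', hP'⟩ : ∃ P', P = P' + 1 := ⟨P - 1, by omega⟩
    rw [hP', Nat.add_sub_cancel]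
    conv_rhs => arg 1; rw [← Nat.mod_add_div i e]
    ring
  obtain ⟨k, hk, hke⟩ := (Nat.dvd_prime_pow hp.out).mp (hdvd P hPS)
  have hek : p ^ k = e := hke.symm
  -- a normalized intertwiner
  obtain ⟨T₀, hT0, hT₀⟩ := heS
  set P' := p ^ (n - k) with hP'
  have heP : e * P' = P := by rw [← hek, hP', ← pow_add, hP]; congr 1; omega
  have hpowT : ∀ (T : End K U), (∀ g, T * σ g = σ (cj e g) * T) → ∀ m g, T ^ m * σ g = σ (cj (e * m) g) * T ^ m := by
    intro T hT m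
    induction m with
    | zero => intro g; rw [Nat.mul_zero, hc0, pow_zero, one_mul, mul_one]
    | succ m ih =>
      intro g
      rw [pow_succ', mul_assoc, ih, ← mul_assoc, hT, mul_assoc, ← hcadd, Nat.mul_succ, add_comm e]
  obtain ⟨c, hc⟩ := schur hσirr (T₀ ^ P') fun g _ => by
    have := hpowT T₀ hT₀ P' g
    rwa [heP, ← Nat.zero_add P, hcmod, hc0] at this
  have hc0' : c ≠ 0 := by
    rintro rfl
    rw [zero_smul] at hc
    exact ((hunit hT0 hT₀).pow P').ne_zero hc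
  obtain ⟨d, hd⟩ := IsAlgClosed.exists_pow_nat_eq c⁻¹ (Nat.pow_pos hp.out.pos : 0 < P')
  set T := d • T₀ with hTdef
  have hT : ∀ g, T * σ g = σ (cj e g) * T := fun g => by rw [hTdef, smul_mul_assoc, hT₀, mul_smul_comm]
  have hT1 : T ^ P' = 1 := by rw [hTdef, smul_pow, hd, hc, smul_smul, inv_mul_cancel₀ hc0', one_smul]
  set Ti := T ^ (P' - 1) with hTi
  have hP'0 : 0 < P' := Nat.pow_pos hp.out.pos
  have hTiT : Ti * T = 1 := by rw [hTi, ← pow_succ, Nat.sub_add_cancel hP'0, hT1]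
  have hTTi : T * Ti = 1 := by rw [hTi, ← pow_succ', Nat.sub_add_cancel hP'0, hT1]
  -- the equivariant maps
  let C : End K (U →ₗ[K] V) :=
    { toFun := fun φ => ρ (x ^ e) ∘ₗ φ ∘ₗ Ti
      map_add' := fun a b => by ext; simp
      map_smul' := fun a b => by ext; simp }
  have hCpow : ∀ m φ, (C ^ m) φ = ρ ((x ^ e) ^ m) ∘ₗ φ ∘ₗ (Ti ^ m : End K U) := by
    intro m φ
    induction m with
    | zero => ext u; simp
    | succ m ih =>
      ext u
      rw [pow_succ', Module.End.mul_apply, ih]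
      show ρ (x ^ e) (ρ ((x ^ e) ^ m) (φ ((Ti ^ m) (Ti u)))) = _
      rw [pow_succ' (x ^ e), map_mul, pow_succ Ti]
      rfl
  let Eq' : (U →ₗ[K] V) → Prop := fun φ => ∀ (g : Q) (u : U), φ (σ g u) = ρ (g : G) (φ u)
  have hC : ∀ φ, Eq' φ → Eq' (C φ) := by
    intro φ hφ g u
    show ρ (x ^ e) (φ (Ti (σ g u))) = ρ (g : G) (ρ (x ^ e) (φ (Ti u)))
    obtain ⟨g₀, hg₀⟩ := hcsurj e g
    have h1 : Ti (σ g u) = σ g₀ (Ti u) := by
      have h2 : Ti * σ g = σ g₀ * Ti :=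
        calc Ti * σ g = Ti * (σ (cj e g₀) * T) * Ti := by rw [hg₀, mul_assoc, mul_assoc, hTTi, mul_one]
          _ = Ti * (T * σ g₀) * Ti := by rw [hT]
          _ = σ g₀ * Ti := by rw [← mul_assoc Ti, hTiT, one_mul]
      exact LinearMap.congr_fun h2 u
    rw [h1, hφ, ← Module.End.mul_apply, ← map_mul, ← Module.End.mul_apply, ← map_mul]
    congr 2
    rw [← hg₀]
    show x ^ e * (g₀ : G) = x ^ e * g₀ * (x ^ e)⁻¹ * x ^ e
    group
  have hφ₀ : Eq' U.subtype := fun g u => rfl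
  have hCP : (C - 1) ^ P' = 0 := by
    haveI : Nontrivial (End K (U →ₗ[K] V)) := by
      refine ⟨1, 0, fun h => ?_⟩
      obtain ⟨u, hu⟩ := exists_ne (0 : U)
      exact hu (Subtype.ext (LinearMap.congr_fun (LinearMap.congr_fun h U.subtype) u))
    haveI := charP_of_injective_algebraMap (algebraMap K (End K (U →ₗ[K] V))).injective p
    rw [hP', sub_pow_char_pow_of_commute p (n - k) (Commute.one_right C), one_pow, sub_eq_zero]
    refine LinearMap.ext fun φ => ?_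
    rw [hCpow, ← pow_mul, ← hP', heP, hxP, map_one, hTi, ← pow_mul, mul_comm, pow_mul, hT1, one_pow,
      Module.End.one_apply]
    rfl
  have hEqpow : ∀ m, Eq' (((C - 1) ^ m : End K (U →ₗ[K] V)) U.subtype) := by
    intro m
    induction m with
    | zero => simpa using hφ₀
    | succ m ih =>
      rw [pow_succ', Module.End.mul_apply, LinearMap.sub_apply, Module.End.one_apply]
      intro g u
      rw [LinearMap.sub_apply, LinearMap.sub_apply, hC _ ih g u, ih g u, map_sub]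
  have hexj : ∃ j, ((C - 1) ^ (j + 1) : End K (U →ₗ[K] V)) U.subtype = 0 := ⟨P', by rw [pow_succ, hCP, zero_mul, LinearMap.zero_apply]⟩
  set φ := ((C - 1) ^ Nat.find hexj : End K (U →ₗ[K] V)) U.subtype with hφdef
  have hφ0 : φ ≠ 0 := by
    rcases hf : Nat.find hexj with _ | j
    · rw [hφdef, hf, pow_zero, Module.End.one_apply]
      intro h
      obtain ⟨u, hu⟩ := exists_ne (0 : U)
      exact hu (Subtype.ext (LinearMap.congr_fun h u))
    · rw [hφdef, hf]
      exact Nat.find_min hexj (by omega)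
  have hφQ : Eq' φ := hEqpow _
  have hfix : ∀ u, ρ (x ^ e) (φ u) = φ (T u) := by
    intro u
    have h := Nat.find_spec hexj
    rw [pow_succ', Module.End.mul_apply, ← hφdef, LinearMap.sub_apply, Module.End.one_apply, sub_eq_zero] at h
    have h2 := LinearMap.congr_fun h (T u)
    rw [← h2]
    show _ = ρ (x ^ e) (φ (Ti (T u)))
    rw [← Module.End.mul_apply Ti T, hTiT, Module.End.one_apply]
  have hinj : Function.Injective φ := by
    rw [← LinearMap.ker_eq_bot]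
    refine (hσirr _ fun g _ w hw => ?_).resolve_right fun h => hφ0 (LinearMap.ker_eq_top.mp h)
    rw [LinearMap.mem_ker] at hw ⊢
    rw [hφQ, hw, map_zero]
  -- independence of the translates
  have hindep : ∀ u : Fin e → U, ∑ i : Fin e, ρ (x ^ (i : ℕ)) (φ (u i)) = 0 → u = 0 := by
    by_contra hdep
    push Not at hdep
    let act : Q → (Fin e → U) → (Fin e → U) := fun g u i => σ (cj (i * P - i) g) (u i)
    have hact : ∀ g u, ∑ i : Fin e, ρ (x ^ (i : ℕ)) (φ (act g u i)) =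
        ρ (g : G) (∑ i : Fin e, ρ (x ^ (i : ℕ)) (φ (u i))) := by
      intro g u
      rw [map_sum]
      refine Finset.sum_congr rfl fun i _ => ?_
      rw [hφQ, ← Module.End.mul_apply, ← map_mul, ← Module.End.mul_apply, ← map_mul]
      congr 2
      show x ^ (i : ℕ) * (x ^ ((i : ℕ) * P - i) * (g : G) * (x ^ ((i : ℕ) * P - i))⁻¹) = _
      have h1 : x ^ ((i : ℕ) * P - i) = (x ^ (i : ℕ))⁻¹ := by
        refine eq_inv_of_mul_eq_one_right ?_
        rw [← pow_add, Nat.add_sub_cancel' (Nat.le_mul_of_pos_right _ hP0), mul_comm, pow_mul, hxP, one_pow]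
      rw [h1]; group
    obtain ⟨u₀, hu₀, hu₀0⟩ := hdep
    have hexs : ∃ m, ∃ (s : Finset (Fin e)) (u : Fin e → U), s.card = m ∧ u ≠ 0 ∧
        (∀ i ∉ s, u i = 0) ∧ ∑ i : Fin e, ρ (x ^ (i : ℕ)) (φ (u i)) = 0 :=
      ⟨_, Finset.univ, u₀, rfl, hu₀0, fun i hi => absurd (Finset.mem_univ i) hi, hu₀⟩
    obtain ⟨s, v, hscard, hv0, hvs, hvsum⟩ := Nat.find_spec hexs
    have hsmall : ∀ w : Fin e → U, (∀ i ∉ s, w i = 0) → ∑ i : Fin e, ρ (x ^ (i : ℕ)) (φ (w i)) = 0 →
        ∀ i ∈ s, w i = 0 → w = 0 := by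
      intro w hws hwsum i his hwi
      by_contra hw
      refine Nat.find_min hexs (hscard ▸ Finset.card_erase_lt_of_mem his) ⟨s.erase i, w, rfl, hw, fun j hj => ?_, hwsum⟩
      rw [Finset.mem_erase] at hj
      by_cases hji : j = i
      · rw [hji, hwi]
      · exact hws j fun h => hj ⟨hji, h⟩
    obtain ⟨i, hvi⟩ : ∃ i, v i ≠ 0 := Function.ne_iff.mp hv0
    have his : i ∈ s := by_contra fun h => hvi (hvs i h)
    obtain ⟨j, hjs, hji⟩ : ∃ j ∈ s, j ≠ i := by
      by_contra hc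
      push Not at hc
      rw [Finset.sum_eq_single i (fun b _ hb => by rw [hvs b fun h => hb (hc b h), map_zero, map_zero])
        (fun h => absurd (Finset.mem_univ i) h)] at hvsum
      refine hvi (hinj ?_)
      rw [map_zero]
      have := congrArg (ρ (x ^ (i : ℕ))⁻¹) hvsum
      rwa [← Module.End.mul_apply, ← map_mul, inv_mul_cancel, map_one, Module.End.one_apply, map_zero] at this
    -- the space of relations supported on `s`
    let Φ : (Fin e → U) →ₗ[K] V := ∑ i : Fin e, (ρ (x ^ (i : ℕ)) ∘ₗ φ) ∘ₗ LinearMap.proj i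
    have hΦ : ∀ w, Φ w = ∑ i : Fin e, ρ (x ^ (i : ℕ)) (φ (w i)) := fun w => by simp [Φ, LinearMap.sum_apply]
    let N : Submodule K (Fin e → U) := LinearMap.ker Φ ⊓ ⨅ l ∈ (sᶜ : Finset (Fin e)), LinearMap.ker (LinearMap.proj l)
    have hN : ∀ w, w ∈ N ↔ (∑ i : Fin e, ρ (x ^ (i : ℕ)) (φ (w i)) = 0 ∧ ∀ l ∉ s, w l = 0) := by
      intro w; simp [N, hΦ]
    let π₀ : N →ₗ[K] U := LinearMap.proj i ∘ₗ N.subtype
    have hπinj : Function.Injective π₀ := by
      rw [← LinearMap.ker_eq_bot, eq_bot_iff]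
      intro w hw
      exact Subtype.ext (hsmall w ((hN w).mp w.2).2 ((hN w).mp w.2).1 i his (LinearMap.mem_ker.mp hw))
    have hactN : ∀ g w, w ∈ N → act g w ∈ N := by
      intro g w hw
      refine (hN _).mpr ⟨by rw [hact, ((hN w).mp hw).1, map_zero], fun l hl => ?_⟩
      show σ _ (w l) = 0
      rw [((hN w).mp hw).2 l hl, map_zero]
    have hπsurj : LinearMap.range π₀ = ⊤ := by
      refine (hσirr _ fun h _ w hw => ?_).resolve_left fun hb => ?_
      · obtain ⟨w', rfl⟩ := hw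
        obtain ⟨g, hg⟩ := hcsurj ((i : ℕ) * P - i) h
        exact ⟨⟨act g w', hactN g w' w'.2⟩, show σ _ ((w' : Fin e → U) i) = σ h (π₀ w') by rw [hg]; rfl⟩
      · rw [LinearMap.range_eq_bot] at hb
        exact hvi (LinearMap.congr_fun hb ⟨v, (hN v).mpr ⟨hvsum, hvs⟩⟩)
    let E := LinearEquiv.ofBijective π₀ ⟨hπinj, LinearMap.range_eq_top.mp hπsurj⟩
    let ψ : End K U := (LinearMap.proj j ∘ₗ N.subtype) ∘ₗ E.symm.toLinearMap
    set dd := ((j : ℕ) * P - j) + (i : ℕ) with hdd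
    have hψ : ∀ h, ψ * σ h = σ (cj dd h) * ψ := by
      intro h
      refine LinearMap.ext fun u => ?_
      obtain ⟨w, rfl⟩ := E.surjective u
      have hg : cj ((i : ℕ) * P - i) (cj i h) = h := by
        rw [← hcadd, Nat.sub_add_cancel (Nat.le_mul_of_pos_right _ hP0), show (i : ℕ) * P = 0 + i * P by ring,
          hcmul, hc0]
      have hEw : σ h (E w) = E ⟨act (cj i h) w, hactN _ w w.2⟩ := by
        show σ h ((w : Fin e → U) i) = σ _ ((w : Fin e → U) i)
        rw [hg]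
      rw [Module.End.mul_apply, hEw, Module.End.mul_apply]
      show ((E.symm (E ⟨act (cj i h) w, _⟩) : N) : Fin e → U) j = σ _ (((E.symm (E w) : N) : Fin e → U) j)
      rw [E.symm_apply_apply, E.symm_apply_apply, hdd, hcadd]
    have hψ0 : ψ ≠ 0 := by
      intro h0
      refine hv0 (hsmall v hvs hvsum j hjs ?_)
      have := LinearMap.congr_fun h0 (E ⟨v, (hN v).mpr ⟨hvsum, hvs⟩⟩)
      rw [LinearMap.zero_apply] at this
      rw [← this]
      show v j = ((E.symm (E ⟨v, _⟩) : N) : Fin e → U) j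
      rw [E.symm_apply_apply]
    have hd1 : e ∣ dd := hdvd dd ⟨ψ, hψ0, hψ⟩
    refine hji (Fin.ext ?_)
    have hd2 : (e : ℤ) ∣ ((i : ℕ) : ℤ) - (j : ℕ) := by
      have h1 : (e : ℤ) ∣ (P : ℤ) := Int.natCast_dvd_natCast.mpr (hdvd P hPS)
      have h2 : (e : ℤ) ∣ ((dd : ℕ) : ℤ) := Int.natCast_dvd_natCast.mpr hd1
      rw [hdd, Nat.cast_add, Nat.cast_sub (Nat.le_mul_of_pos_right _ hP0), Nat.cast_mul] at h2
      rw [show ((i : ℕ) : ℤ) - (j : ℕ) =
        ((j : ℕ) : ℤ) * (P : ℤ) - (j : ℕ) + (i : ℕ) - ((j : ℕ) : ℤ) * (P : ℤ) by ring]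
      exact dvd_sub h2 (h1.mul_left _)
    have := Int.eq_zero_of_abs_lt_dvd hd2 (by rw [abs_lt]; omega)
    omega
  refine ⟨k, hk, LinearMap.range φ, fun h => hφ0 (LinearMap.range_eq_bot.mp h), ?_, ?_, ?_, ?_, ?_, ?_⟩
  · rintro g hg _ ⟨u, rfl⟩
    exact ⟨σ ⟨g, hg⟩ u, hφQ _ u⟩
  · rintro _ ⟨u, rfl⟩
    exact ⟨T u, by rw [hek, hfix]⟩
  · intro W hW hWQ
    rcases hσirr (W.comap φ) (fun g _ w hw => by
      rw [Submodule.mem_comap] at hw ⊢
      rw [hφQ]; exact hWQ _ g.2 _ hw) with h | h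
    · refine Or.inl ((Submodule.eq_bot_iff W).mpr fun w hw => ?_)
      obtain ⟨u, rfl⟩ := hW hw
      have : u ∈ (⊥ : Submodule K U) := h ▸ hw
      rw [(Submodule.mem_bot K).mp this, map_zero]
    · refine Or.inr (le_antisymm hW ?_)
      rintro _ ⟨u, rfl⟩
      exact (h ▸ Submodule.mem_top : u ∈ W.comap φ)
  · intro hk1 htop
    have he2 : 1 < e := by
      rw [← hek]; exact Nat.one_lt_pow (by omega) hp.out.one_lt
    obtain ⟨u, hu⟩ := exists_ne (0 : U)
    obtain ⟨v, hv⟩ : ρ (x ^ 1) (φ u) ∈ LinearMap.range φ := htop ▸ Submodule.mem_top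
    have := hindep (Pi.single ⟨1, he2⟩ u - Pi.single ⟨0, he0⟩ v) ?_
    · have h1 := congrFun this ⟨1, he2⟩
      simp [Pi.single_apply] at h1
      exact hu h1
    · simp only [Pi.sub_apply, map_sub, Finset.sum_sub_distrib]
      rw [Finset.sum_eq_single (⟨1, he2⟩ : Fin e) (fun b _ hb => by simp [hb])
        (fun h => absurd (Finset.mem_univ _) h),
        Finset.sum_eq_single (⟨0, he0⟩ : Fin e) (fun b _ hb => by simp [hb])
        (fun h => absurd (Finset.mem_univ _) h)]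
      simp only [Pi.single_eq_same]
      rw [hv]
      simp
  · rintro _ ⟨u, rfl⟩ hu hsum
    refine hu ?_
    rw [hek, Finset.sum_range] at hsum
    have h1 := congrFun (hindep (fun _ => u) hsum) ⟨0, he0⟩
    rw [show u = 0 from h1, map_zero]
  · intro hH
    obtain ⟨T', hT', hTt⟩ := hH U hUQ hU0 hirrU
    have h1 : 1 ∈ S := ⟨T', hT', fun g => hTt g (cj 1 g) (by simp [cj])⟩
    have h2 : p ^ k = 1 := by rw [hek]; exact Nat.dvd_one.mp (hdvd 1 h1)
    exact (Nat.pow_eq_one.mp h2).resolve_left hp.out.ne_one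

end Cfsg.Agent.PLocal.TheoremB
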